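import Groth.Agent.EtDev.Devissage
import Groth.Agent.EtAcDepth.EffObj
import Groth.Agent.GalCohAux.AicCoh
import Groth.Agent.Hens.RigidAIC

/-!
# Constructible sheaves on affine schemes embed in direct images from absolutely integrally closed rings
-/

set_option autoImplicit false
set_option backward.isDefEq.respectTransparency false
set_option linter.style.haveILetI false

universe u

open CategoryTheory CategoryTheory.Limits AlgebraicGeometry Opposite

noncomputable section

namespace Groth.Agent.EtDev.AicEmbed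

open Groth.Agent Groth.Agent.EtaleSite Groth.Agent.EtConsAb

/-- Every ring has an integral extension which is absolutely integrally closed and surjective on spectra. -/
theorem exists_aic_cover (T : CommRingCat.{u}) :
    ∃ (R : CommRingCat.{u}) (φ : T ⟶ R),
      φ.hom.IsIntegral ∧ Curves.IsAIC R ∧ Function.Surjective (Spec.map φ).base := by
  classical
  let K := ∀ p : PrimeSpectrum T, AlgebraicClosure p.asIdeal.ResidueField
  let R := integralClosure T K
  refine ⟨CommRingCat.of R, CommRingCat.ofHom (algebraMap T R),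
    fun x => Algebra.IsIntegral.isIntegral x, ?_, ?_⟩
  · intro f hf hd
    rcases subsingleton_or_nontrivial K with hs | hs
    · exact ⟨0, Subtype.ext (Subsingleton.elim _ _)⟩
    have hK : Hens.RigidAIC.IsAIC K := Hens.RigidAIC.isAIC_pi fun p g hg hgd => by
      obtain ⟨r, hr⟩ := IsAlgClosed.exists_root g
        (by rw [Polynomial.degree_eq_natDegree hg.ne_zero]; exact_mod_cast hgd)
      exact ⟨r, hr⟩
    obtain ⟨x, hx⟩ := hK (f.map (algebraMap R K)) (hf.map _)
      (by rw [hf.natDegree_map]; omega)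
    rw [Polynomial.IsRoot.def, Polynomial.eval_map] at hx
    haveI : Algebra.IsIntegral T R := inferInstance
    have hxi : IsIntegral T x := isIntegral_trans x ⟨f, hf, hx⟩
    refine ⟨⟨x, hxi⟩, Subtype.ext ?_⟩
    refine Eq.trans ?_ hx
    exact (Polynomial.eval₂_at_apply (algebraMap R K) (⟨x, hxi⟩ : R)).symm
  · intro p
    let e : R →+* AlgebraicClosure p.asIdeal.ResidueField :=
      (Pi.evalRingHom (fun p : PrimeSpectrum T => AlgebraicClosure p.asIdeal.ResidueField) p).comp R.val.toRingHom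
    refine ⟨⟨RingHom.ker e, RingHom.ker_isPrime e⟩, PrimeSpectrum.ext (Ideal.ext fun t => ?_)⟩
    show e (algebraMap T R t) = 0 ↔ _
    rw [show e (algebraMap T R t) = algebraMap p.asIdeal.ResidueField (AlgebraicClosure p.asIdeal.ResidueField)
      (algebraMap T p.asIdeal.ResidueField t) from
        (IsScalarTower.algebraMap_apply T p.asIdeal.ResidueField (AlgebraicClosure p.asIdeal.ResidueField) t),
      map_eq_zero, Ideal.algebraMap_residueField_eq_zero]

theorem mono_constToPush {Y T : Scheme.{u}} (h : Y ⟶ T) (hs : Function.Surjective h.base)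
    (M : AddCommGrpCat.{u + 1}) : Mono (EtAcDepth.constToPush h M) :=
  Preadditive.mono_of_cancel_zero _ fun {G} a ha =>
    EtAcDepth.eq_zero_of_comp_constToPush (ι := Unit) (fun _ => Y) (fun _ => h)
      (fun s => ⟨(), hs s⟩) M a fun _ => ha

variable {X : Scheme.{u}} [IsAffine X]

/-- A constructible sheaf killed by `m` embeds in a sum of direct images of finite constant sheaves
from spectra of absolutely integrally closed rings. -/
theorem exists_aic_embedding {F : EtCoh.Ab X} (hF : EtPBC.IsConstructible F) :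
    ∃ (n : ℕ) (R : Fin n → CommRingCat.{u}) (_ : ∀ i, Curves.IsAIC (R i))
      (g : ∀ i, Spec (R i) ⟶ X) (_ : ∀ i, IsIntegralHom (g i))
      (M : Fin n → Type) (_ : ∀ i, AddCommGroup (M i)) (_ : ∀ i, Finite (M i))
      (a : F ⟶ ⨁ fun i => (EtCoh.push (g i)).obj (EtCoh.const (Spec (R i)) (M i))), Mono a := by
  classical
  obtain ⟨n, Y, f, hf, -, M, _, _, ι, hι⟩ := exists_embedding hF
  haveI : ∀ i, IsAffine (Y i) := fun i => haveI := hf i; isAffine_of_isAffineHom (f i)
  choose R φ hint haic hsurj using fun i => exists_aic_cover Γ(Y i, ⊤)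
  let h : ∀ i, Spec (R i) ⟶ Y i := fun i => Spec.map (φ i) ≫ (Y i).isoSpec.inv
  have hh : ∀ i, Function.Surjective (h i).base := fun i y => by
    obtain ⟨r, hr⟩ := hsurj i ((Y i).isoSpec.hom y)
    refine ⟨r, ?_⟩
    rw [Scheme.Hom.comp_apply, hr, ← Scheme.Hom.comp_apply, Iso.hom_inv_id]
    rfl
  haveI : ∀ i, IsIntegralHom (h i ≫ f i) := fun i => by
    haveI : IsIntegralHom (Spec.map (φ i)) := IsIntegralHom.SpecMap_iff.2 (hint i)
    haveI := hf i
    infer_instance
  let c : ∀ i, (EtCoh.push (f i)).obj (EtCoh.const (Y i) (M i)) ⟶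
      (EtCoh.push (h i ≫ f i)).obj (EtCoh.const (Spec (R i)) (M i)) := fun i =>
    (EtCoh.push (f i)).map (EtAcDepth.constToPush (h i) _) ≫ ((EtCoh.pushComp (f i) (h i)).app _).hom
  haveI : ∀ i, Mono (c i) := fun i => by
    haveI := mono_constToPush (h i) (hh i) (AddCommGrpCat.of (ULift.{u + 1} (M i)))
    haveI : (EtCoh.push (f i)).PreservesMonomorphisms :=
      Functor.preservesMonomorphisms_of_adjunction (EtCoh.pullPushAdj (f i))
    exact mono_comp _ _
  exact ⟨n, R, haic, fun i => h i ≫ f i, inferInstance, M, inferInstance, inferInstance,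
    ι ≫ biproduct.map c, mono_comp _ _⟩

/-- Torsion of a finite sum of direct images of finite constant sheaves. -/
theorem isTorsion_biproduct_push {n : ℕ} {Y : Fin n → Scheme.{u}} (g : ∀ i, Y i ⟶ X)
    (M : Fin n → Type) [∀ i, AddCommGroup (M i)] [∀ i, Finite (M i)] :
    ∃ m : ℕ, 0 < m ∧ m • 𝟙 (⨁ fun i => (EtCoh.push (g i)).obj (EtCoh.const (Y i) (M i))) = 0 := by
  classical
  refine ⟨∏ i, Nat.card (M i), Finset.prod_pos fun i _ => Nat.card_pos, biproduct.hom_ext' _ _ fun i => ?_⟩
  let Φ : AddCommGrpCat.{u + 1} ⥤ EtCoh.Ab X :=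
    constantSheaf (Y i).smallEtaleTopology AddCommGrpCat.{u + 1} ⋙ EtCoh.push (g i)
  haveI : (constantSheaf (Y i).smallEtaleTopology AddCommGrpCat.{u + 1}).Additive := inferInstance
  haveI : Φ.Additive := inferInstance
  have h0 : (∏ i, Nat.card (M i)) • 𝟙 (Φ.obj (AddCommGrpCat.of (ULift.{u + 1} (M i)))) = 0 := by
    rw [← Φ.map_id, ← Functor.map_nsmul, show (∏ i, Nat.card (M i)) • 𝟙 (AddCommGrpCat.of (ULift.{u + 1} (M i))) = 0 from
      AddCommGrpCat.hom_ext (AddMonoidHom.ext fun x => ULift.ext _ _ (by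
        obtain ⟨k, hk⟩ := Finset.dvd_prod_of_mem (fun i => Nat.card (M i)) (Finset.mem_univ i)
        simp only [hk]
        simp [mul_comm, mul_nsmul, card_nsmul_eq_zero']))]
    exact Φ.map_zero _ _
  have h1 := congrArg (fun k => k ≫ biproduct.ι
    (fun i => (EtCoh.push (g i)).obj (EtCoh.const (Y i) (M i))) i) h0
  simpa [Preadditive.nsmul_comp, Φ] using h1

section Closed

variable {Z : Scheme.{u}} (i : Z ⟶ X) [IsClosedImmersion i]

/-- Higher cohomology on a closed subscheme of a direct image from an absolutely integrally closed ring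
vanishes. -/
theorem subsingleton_H_pull_push {R : CommRingCat.{u}} (hR : Curves.IsAIC R) (g : Spec R ⟶ X)
    [IsIntegralHom g] (M : Type) [AddCommGroup M] [Finite M] (q : ℕ) :
    Subsingleton (EtCoh.H Z ((EtCoh.pull i).obj ((EtCoh.push g).obj (EtCoh.const (Spec R) M))) (q + 1)) := by
  let P := pullback g i
  let hb : P ⟶ Spec R := pullback.fst g i
  let pY : P ⟶ Z := pullback.snd g i
  have sq : IsPullback hb pY g i := IsPullback.of_hasPullback g i
  haveI : IsAffine P := isAffine_of_isAffineHom hb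
  let e := P.isoSpec
  have hs : Function.Surjective (hb.appTop.hom.comp (Scheme.ΓSpecIso R).inv.hom) :=
    (IsClosedImmersion.isAffine_surjective_of_isAffine hb).2.comp
      (Scheme.ΓSpecIso R).commRingCatIsoToRingEquiv.symm.surjective
  have hP : Curves.IsAIC Γ(P, ⊤) := fun f hf hd => by
    obtain ⟨r, hr⟩ := Hens.RigidAIC.isAIC_of_surjective
      (fun f hf hd => hR f hf (Nat.pos_of_ne_zero hd)) _ hs f hf hd.ne'
    exact ⟨r, hr⟩
  haveI : Subsingleton (EtCoh.H (Spec Γ(P, ⊤)) (EtCoh.const (Spec Γ(P, ⊤)) M) (q + 1)) :=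
    GalCohAux.AicCoh.vanish q Γ(P, ⊤) hP
  haveI : Subsingleton (EtCoh.H P ((EtCoh.pull e.hom).obj (EtCoh.const (Spec Γ(P, ⊤)) M)) (q + 1)) :=
    (HpullComp.Hpull_bijective_of_isIso e.hom (q + 1) (EtCoh.const (Spec Γ(P, ⊤)) M)).2.subsingleton
  haveI : Subsingleton (EtCoh.H P (EtCoh.const P M) (q + 1)) :=
    (HpullComp.HF_map_bijective (EtCore.pullConst e.hom M).hom).2.subsingleton
  haveI : Subsingleton (EtCoh.H P ((EtCoh.pull hb).obj (EtCoh.const (Spec R) M)) (q + 1)) :=
    (HpullComp.HF_map_bijective (EtCore.pullConst hb M).hom).1.subsingleton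
  haveI : IsIntegralHom pY := MorphismProperty.of_isPullback sq ‹IsIntegralHom g›
  haveI : PreservesFiniteLimits (EtCoh.pull pY) := inferInstance
  haveI : Subsingleton (EtCoh.H Z ((EtCoh.push pY).obj ((EtCoh.pull hb).obj (EtCoh.const (Spec R) M))) (q + 1)) :=
    (bijective_pushH pY _ (q + 1)).1.subsingleton
  haveI := EtaleSite.isIso_baseChange0_integral g i pY hb sq (EtCoh.const (Spec R) M)
  exact (HpullComp.HF_map_bijective (n := q + 1)
    (EtCoh.baseChange0 g i pY hb sq.w (EtCoh.const (Spec R) M))).1.subsingleton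

/-- Constructible sheaves embed in torsion sheaves without higher cohomology on the closed subscheme. -/
theorem exists_acyclic_embedding [EtCoh.BCCont i] [PreservesFiniteLimits (EtCoh.pull i)] {F : EtCoh.Ab X}
    (hF : EtPBC.IsConstructible F) :
    ∃ (E : EtCoh.Ab X) (a : F ⟶ E), Mono a ∧ EtCoh.IsTorsion E ∧
      ∀ q, Subsingleton (EtCoh.H Z ((EtCoh.pull i).obj E) (q + 1)) := by
  classical
  obtain ⟨n, R, haic, g, hg, M, _, _, a, ha⟩ := exists_aic_embedding hF
  obtain ⟨m, hm, hk⟩ := isTorsion_biproduct_push g M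
  refine ⟨_, a, ha, fun U s x => ⟨U, 𝟙 U, ⟨x, rfl⟩,
    isOfFinAddOrder_iff_nsmul_eq_zero.2 ⟨m, hm, killedBy_of_nsmul hk U _⟩⟩, fun q => ?_⟩
  let E := fun j => (EtCoh.push (g j)).obj (EtCoh.const (Spec (R j)) (M j))
  refine subsingleton_of_forall_eq 0 fun x => ?_
  haveI : (EtCoh.pull i).Additive := Functor.additive_of_preserves_binary_products _
  have h1 : ∑ j, (EtCoh.pull i).map (biproduct.π E j) ≫ (EtCoh.pull i).map (biproduct.ι E j) = 𝟙 _ := by
    simp only [← Functor.map_comp, ← Functor.map_sum, biproduct.total, CategoryTheory.Functor.map_id, E]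
  rw [← Abelian.Ext.comp_mk₀_id x, ← h1, Abelian.Ext.mk₀_sum, Abelian.Ext.comp_sum]
  refine Finset.sum_eq_zero fun j _ => ?_
  rw [← Abelian.Ext.mk₀_comp_mk₀, ← Abelian.Ext.comp_assoc_of_second_deg_zero]
  haveI := hg j
  haveI := subsingleton_H_pull_push i (haic j) (g j) (M j) q
  rw [Subsingleton.elim (x.comp (Abelian.Ext.mk₀ ((EtCoh.pull i).map (biproduct.π E j))) (add_zero (q + 1))) 0]
  exact Abelian.Ext.zero_comp ..

end Closed

theorem isTorsion_biprod {Y : Scheme.{u}} {A B : EtCoh.Ab Y} (hA : EtCoh.IsTorsion A)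
    (hB : EtCoh.IsTorsion B) : EtCoh.IsTorsion (A ⊞ B) := fun U s x => by
  let f := (biprod.fst : A ⊞ B ⟶ A).hom.app
  let g := (biprod.snd : A ⊞ B ⟶ B).hom.app
  obtain ⟨V, p, ⟨v, hv⟩, ha⟩ := hA U (f (op U) s) x
  obtain ⟨W, r, ⟨w, hw⟩, hb⟩ := hB V (B.obj.map p.op (g (op U) s)) v
  refine ⟨W, r ≫ p, ⟨w, (congrArg p.left.base hw).trans hv⟩, ?_⟩
  let t := (A ⊞ B).obj.map (r ≫ p).op s
  have hid : (biprod.inl : A ⟶ A ⊞ B).hom.app (op W) (f (op W) t) +
      (biprod.inr : B ⟶ A ⊞ B).hom.app (op W) (g (op W) t) = t :=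
    congrArg (fun k : A ⊞ B ⟶ A ⊞ B => k.hom.app (op W) t) (biprod.total (X := A) (Y := B))
  show IsOfFinAddOrder t
  rw [← hid]
  refine IsOfFinAddOrder.add (AddMonoidHom.isOfFinAddOrder _ ?_) (AddMonoidHom.isOfFinAddOrder _ ?_)
  · rw [show f (op W) t = A.obj.map r.op (A.obj.map p.op (f (op U) s)) by
      refine (NatTrans.naturality_apply (biprod.fst : A ⊞ B ⟶ A).hom (r ≫ p).op s).trans ?_
      rw [op_comp, Functor.map_comp]
      rfl]
    exact (A.obj.map r.op).hom.isOfFinAddOrder ha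
  · rw [show g (op W) t = B.obj.map r.op (B.obj.map p.op (g (op U) s)) by
      refine (NatTrans.naturality_apply (biprod.snd : A ⊞ B ⟶ B).hom (r ≫ p).op s).trans ?_
      rw [op_comp, Functor.map_comp]
      rfl]
    exact hb

end Groth.Agent.EtDev.AicEmbed
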