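import Groth.Agent.EtAcDepth.Torsion
import Groth.Prelude.Def_EtAcyc

/-!
# `L`-torsion sheaves are filtered colimits of constructible sheaves killed by `L`-numbers
-/

set_option autoImplicit false
set_option linter.style.haveILetI false

universe u

open CategoryTheory CategoryTheory.Limits AlgebraicGeometry Opposite

noncomputable section

namespace Groth.Agent.EtDev

open Groth.Agent Groth.Agent.EtaleSite Groth.Agent.EtConsAb

variable {X : Scheme.{u}} {L : Set ℕ}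

/-- `F` is killed by an integer with prime factors in `L`. -/
def KillsL (L : Set ℕ) (F : EtCoh.Ab X) : Prop := ∃ m : ℕ, EtAcyc.PrimesIn L m ∧ m • 𝟙 F = 0

theorem KillsL.isLTorsion {F : EtCoh.Ab X} (h : KillsL L F) : EtAcyc.IsLTorsion L F := by
  obtain ⟨m, hm, hk⟩ := h
  exact fun U s x => ⟨U, 𝟙 U, m, ⟨x, rfl⟩, hm, killedBy_of_nsmul hk U _⟩

/-- The stages all whose generators are killed by `L`-numbers. -/
def LGen (L : Set ℕ) {F : EtCoh.Ab X} (p : Stage F) : Prop := ∀ g ∈ p.1.1, EtAcyc.PrimesIn L g.n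

theorem killsL_obj {F : EtCoh.Ab X} (p : Stage F) (hp : LGen L p) : KillsL L p.obj := by
  classical
  refine ⟨∏ g : p.1.1, g.1.n, EtColim.TorsionPush.primesIn_prod _ _ fun g => hp g.1 g.2, ?_⟩
  refine (cancel_epi (cokernel.π (Stage.relMap p))).1 (biproduct.hom_ext' _ _ fun g => ?_)
  obtain ⟨c, hc⟩ := Finset.dvd_prod_of_mem (fun g : p.1.1 => g.1.n) (Finset.mem_univ g)
  have h1 : (∏ g : p.1.1, g.1.n) • 𝟙 g.1.src = 0 := by
    rw [hc, mul_comm, mul_smul, show g.1.n • 𝟙 g.1.src = 0 from nsmul_id_extZeroConst _ _, smul_zero]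
  have h2 := congrArg (fun t => t ≫ biproduct.ι (fun g : p.1.1 => g.1.src) g ≫
    cokernel.π (Stage.relMap p)) h1
  simpa [Preadditive.nsmul_comp] using h2

theorem exists_gen_germ_L {F : EtCoh.Ab X} (hF : EtAcyc.IsLTorsion L F) {Ω : Type u}
    [Field Ω] [IsSepClosed Ω] (ξ : Spec (CommRingCat.of Ω) ⟶ X) (q : ↑((EtCoh.stalk ξ).obj F)) :
    ∃ (g : Gen F) (φ : (Scheme.pointSmallEtale ξ).fiber.obj g.U),
      EtAcyc.PrimesIn L g.n ∧ germ ξ F g.U φ g.s = q := by
  obtain ⟨U, φ, s, rfl⟩ := exists_germ_eq ξ F q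
  obtain ⟨V, g, m, ⟨v, hv⟩, hm, hk⟩ := hF U s (φ.left (default : Spec (CommRingCat.of Ω)))
  obtain ⟨ψ, hψ⟩ := exists_fiber_lift g φ v hv
  obtain ⟨W, hW, hvW, -⟩ := exists_isAffineOpen_mem_and_subset
    (show ψ.left (default : Spec (CommRingCat.of Ω)) ∈ (⊤ : V.left.Opens) from trivial)
  haveI : Etale V.hom := V.prop
  obtain ⟨ψ', hψ'⟩ := exists_fiber_lift (pieceHom V W) ψ ⟨_, hvW⟩ rfl
  refine ⟨⟨piece V W, m, hm.1, hW, F.obj.map (pieceHom V W).op (F.obj.map g.op s),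
    by rw [← map_nsmul, hk, map_zero]⟩, ψ', hm, ?_⟩
  show germ ξ F (piece V W) ψ' (F.obj.map (pieceHom V W).op (F.obj.map g.op s)) = _
  rw [germ_res, hψ', germ_res, hψ]

instance directed_lGen {F : EtCoh.Ab X} : IsDirectedOrder {p : Stage F // LGen L p} := ⟨fun p q => by
  classical
  refine ⟨⟨⟨(p.1.1.1 ∪ q.1.1.1, p.1.1.2 ∪ q.1.1.2), fun r hr => ?_⟩, fun g hg => ?_⟩,
    ⟨Finset.subset_union_left, Finset.subset_union_left⟩,
    ⟨Finset.subset_union_right, Finset.subset_union_right⟩⟩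
  · rcases Finset.mem_union.1 hr with h | h
    · exact (p.1.2 r h).trans Finset.subset_union_left
    · exact (q.1.2 r h).trans Finset.subset_union_right
  · rcases Finset.mem_union.1 hg with h | h
    · exact p.2 g h
    · exact q.2 g h⟩

instance nonempty_lGen {F : EtCoh.Ab X} : Nonempty {p : Stage F // LGen L p} :=
  ⟨⟨⟨(∅, ∅), fun r hr => absurd hr (Finset.notMem_empty r)⟩,
    fun g hg => absurd hg (Finset.notMem_empty g)⟩⟩

theorem nonempty_isColimit_lGen [CompactSpace X] [QuasiSeparatedSpace X]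
    {F : EtCoh.Ab X} (hF : EtAcyc.IsLTorsion L F) :
    Nonempty (IsColimit (Stage.cocone (F := F) (LGen L))) := by
  classical
  have hT : ∀ S : Finset (Gen F), EtCoh.IsTorsion (genSum S) := fun S =>
    isTorsion_of_isConstructible (isConstructible_genSum S)
  refine nonempty_isColimit_of_stalk _ (fun Ω _ _ ξ q => ?_) fun Ω _ _ ξ p x hx => ?_
  · obtain ⟨g, φ, hg, rfl⟩ := exists_gen_germ_L hF ξ q
    let p : Stage F := ⟨({g}, ∅), fun r hr => absurd hr (Finset.notMem_empty r)⟩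
    have hp : LGen L p := fun g' hg' => by rw [Finset.mem_singleton.1 hg']; exact hg
    obtain ⟨y, hy⟩ := germ_mem_range_genπ p.1.1 ⟨g, Finset.mem_singleton_self g⟩ ξ φ
    refine ⟨⟨p, hp⟩, (EtCoh.stalk ξ).map (cokernel.π (Stage.relMap p)) y, ?_⟩
    refine Eq.trans ?_ hy
    show (EtCoh.stalk ξ).map (Stage.π p) _ = _
    rw [← ConcreteCategory.comp_apply, ← Functor.map_comp, Stage.π, cokernel.π_desc]
  · obtain ⟨y, rfl⟩ := stalk_surjective_of_epi ξ (cokernel.π (Stage.relMap p.1)) x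
    have hy : (EtCoh.stalk ξ).map (genπ p.1.1.1) y = 0 := by
      refine Eq.trans ?_ hx
      show _ = (EtCoh.stalk ξ).map (Stage.π p.1) _
      rw [← ConcreteCategory.comp_apply, ← Functor.map_comp, Stage.π, cokernel.π_desc]
    obtain ⟨q, hpq, hq1, hq⟩ := Stage.exists_ge_kill hT p.1 ξ (fun _ : PUnit.{u + 2} => y) fun _ => hy
    refine ⟨⟨q, fun g hg => p.2 g (hq1 ▸ hg)⟩, homOfLE (show p ≤ ⟨q, _⟩ from hpq), ?_⟩
    show (EtCoh.stalk ξ).map (Stage.map hpq) _ = 0
    rw [← ConcreteCategory.comp_apply ((EtCoh.stalk ξ).map (cokernel.π (Stage.relMap p.1))), ← Functor.map_comp,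
      Stage.π_map, Functor.map_comp, ConcreteCategory.comp_apply, hq ⟨⟩]

end Groth.Agent.EtDev
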