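import Groth.Agent.EtDev.PushIntegral
import Groth.Agent.EtDev.LTorsionColim
import Groth.Agent.EtAcDepth.Efface
import Groth.Agent.EtConsAb.Embed
import Groth.Agent.EtDescSS.CompBC
import Mathlib.GroupTheory.FiniteAbelian.Basic

/-!
# Comparison of cohomology from finite covers and constant coefficients
-/

set_option autoImplicit false
set_option backward.isDefEq.respectTransparency false
set_option linter.style.haveILetI false

universe u

open CategoryTheory CategoryTheory.Limits AlgebraicGeometry Opposite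
open scoped DirectSum

noncomputable section

namespace Groth.Agent.EtDev

open Groth.Agent Groth.Agent.EtaleSite Groth.Agent.EtConsAb

variable {U V : Scheme.{u}} (v : V ⟶ U) [PreservesFiniteLimits (EtCoh.pull v)]

/-- The hypothesis on finite covers with constant coefficients. -/
def ConstHyp (L : Set ℕ) (n : ℕ) : Prop :=
  ∀ (X' : Scheme.{u}) (p : X' ⟶ U) [IsFinite p] [PreservesFiniteLimits (EtCoh.pull (pullback.fst p v))]
    (ℓ : ℕ), ℓ.Prime → ℓ ∈ L → ∀ ν : ℕ, 1 ≤ ν →
      Function.Injective (EtCore.Hpull (pullback.fst p v) (EtCoh.const X' (ZMod (ℓ ^ ν))) 0) ∧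
      ∀ q : ℕ, q ≤ n → Function.Surjective (EtCore.Hpull (pullback.fst p v) (EtCoh.const X' (ZMod (ℓ ^ ν))) q)

/-- Injective in degree zero and surjective up to `n`. -/
def Test (n : ℕ) (G : EtCoh.Ab U) : Prop :=
  Function.Injective (EtCore.Hpull v G 0) ∧ ∀ q : ℕ, q ≤ n → Function.Surjective (EtCore.Hpull v G q)

theorem test_of_decomp {n : ℕ} {ι : Type*} [Fintype ι] {G : EtCoh.Ab U} (g : ι → EtCoh.Ab U)
    (a : ∀ i, G ⟶ g i) (b : ∀ i, g i ⟶ G) (hab : ∑ i, a i ≫ b i = 𝟙 G) (h : ∀ i, Test v n (g i)) :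
    Test v n G := by
  classical
  have key : ∀ {W : Scheme.{u}} (g : ι → EtCoh.Ab W) (G : EtCoh.Ab W) (p : ∀ i, G ⟶ g i)
      (q : ∀ i, g i ⟶ G), ∑ i, p i ≫ q i = 𝟙 G → ∀ (b : ℕ) (x : EtCoh.H W G b),
      x = ∑ i, (x.comp (Abelian.Ext.mk₀ (p i)) (add_zero b)).comp (Abelian.Ext.mk₀ (q i)) (add_zero b) := by
    intro W g G p q hpq b x
    simp only [Abelian.Ext.comp_assoc_of_second_deg_zero, Abelian.Ext.mk₀_comp_mk₀]
    rw [← Abelian.Ext.comp_sum, ← Abelian.Ext.mk₀_sum, hpq, Abelian.Ext.comp_mk₀_id]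
  have hV := key (fun i => (EtCoh.pull v).obj (g i)) ((EtCoh.pull v).obj G)
    (fun i => (EtCoh.pull v).map (a i)) (fun i => (EtCoh.pull v).map (b i)) (by
      haveI : (EtCoh.pull v).Additive := Functor.additive_of_preserves_binary_products _
      simp only [← Functor.map_comp, ← Functor.map_sum, hab, CategoryTheory.Functor.map_id])
  refine ⟨?_, fun q hq z => ?_⟩
  · rw [injective_iff_map_eq_zero]
    intro x hx
    rw [key g G a b hab _ x]
    refine Finset.sum_eq_zero fun i _ => ?_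
    have : x.comp (Abelian.Ext.mk₀ (a i)) (add_zero 0) = 0 := by
      refine (h i).1 ((HpullSeq.Hpull_postcomp v (a i) 0 x).trans ?_)
      rw [hx, map_zero]
      exact Abelian.Ext.zero_comp ..
    rw [this]
    exact Abelian.Ext.zero_comp ..
  · choose t ht using fun i => (h i).2 q hq
      (z.comp (Abelian.Ext.mk₀ ((EtCoh.pull v).map (a i))) (add_zero q))
    refine ⟨∑ i, (t i).comp (Abelian.Ext.mk₀ (b i)) (add_zero q), ?_⟩
    rw [map_sum, hV _ z]
    refine Finset.sum_congr rfl fun i _ => ?_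
    exact (HpullSeq.Hpull_postcomp v (b i) q (t i)).trans (by rw [ht i])

theorem test_of_isZero {n : ℕ} {G : EtCoh.Ab U} (hG : IsZero G) : Test v n G :=
  test_of_decomp v (ι := Empty) (fun e => e.elim) (fun e => e.elim) (fun e => e.elim)
    (hG.eq_of_src _ _) fun e => e.elim

variable {L : Set ℕ} {n : ℕ} (hh : ConstHyp v L n)

include hh in
theorem test_push_zmod {T : Scheme.{u}} (f : T ⟶ U) [IsFinite f] {ℓ : ℕ} (hℓ : ℓ.Prime) (hℓL : ℓ ∈ L)
    (ν : ℕ) (hν : 1 ≤ ν) : Test v n ((EtCoh.push f).obj (EtCoh.const T (ZMod (ℓ ^ ν)))) := by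
  haveI : PreservesFiniteLimits (EtCoh.pull (pullback.fst f v)) := inferInstance
  obtain ⟨h1, h2⟩ := hh T f ℓ hℓ hℓL ν hν
  have h := fun q => Hpull_push_iff v f (pullback.fst f v) (pullback.snd f v)
    (IsPullback.of_hasPullback f v) (EtCoh.const T (ZMod (ℓ ^ ν))) q
  exact ⟨(h 0).1.1 h1, fun q hq => (h q).2.1 (h2 q hq)⟩

include hh in
/-- Direct images of finite constant sheaves killed by an `L`-number. -/
theorem test_push_const {T : Scheme.{u}} (f : T ⟶ U) [IsFinite f] (M : Type) [AddCommGroup M] [Finite M]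
    {m : ℕ} (hm : EtAcyc.PrimesIn L m) (hM : ∀ x : M, m • x = 0) :
    Test v n ((EtCoh.push f).obj (EtCoh.const T M)) := by
  classical
  obtain ⟨ι, _, p, hp, e, ⟨E⟩⟩ := AddCommGroup.equiv_directSum_zmod_of_finite M
  let Φ : AddCommGrpCat.{u + 1} ⥤ EtCoh.Ab U :=
    constantSheaf T.smallEtaleTopology AddCommGrpCat.{u + 1} ⋙ EtCoh.push f
  haveI : (constantSheaf T.smallEtaleTopology AddCommGrpCat.{u + 1}).Additive := inferInstance
  haveI : Φ.Additive := inferInstance
  let Mu := AddCommGrpCat.of (ULift.{u + 1} M)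
  let Z : ι → AddCommGrpCat.{u + 1} := fun i => AddCommGrpCat.of (ULift.{u + 1} (ZMod (p i ^ e i)))
  let a : ∀ i, Mu ⟶ Z i := fun i =>
    AddCommGrpCat.ofHom (AddMonoidHom.mk' (fun x => ULift.up (E x.down i)) fun x y => by
      ext; simp)
  let b : ∀ i, Z i ⟶ Mu := fun i =>
    AddCommGrpCat.ofHom (AddMonoidHom.mk' (fun y => ULift.up (E.symm (DirectSum.of _ i y.down))) fun x y => by
      ext; simp)
  have hab : ∑ i, a i ≫ b i = 𝟙 Mu := by
    refine AddCommGrpCat.hom_ext (AddMonoidHom.ext fun x => ?_)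
    rw [show (∑ i, a i ≫ b i).hom = ∑ i, (a i ≫ b i).hom from
      map_sum (AddMonoidHom.mk' (fun t : Mu ⟶ Mu => t.hom) fun _ _ => rfl) _ _]
    refine (AddMonoidHom.finsetSum_apply _ _ _).trans (ULift.ext _ _ ?_)
    show (∑ i, ULift.up (E.symm (DirectSum.of (fun i => ZMod (p i ^ e i)) i (E x.down i)))).down = x.down
    refine (map_sum (AddMonoidHom.mk' (ULift.down : ULift.{u + 1} M → M) fun _ _ => rfl) _ _).trans ?_
    show ∑ i, E.symm (DirectSum.of (fun i => ZMod (p i ^ e i)) i (E x.down i)) = x.down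
    rw [← map_sum, DirectSum.sum_univ_of, E.symm_apply_apply]
  refine test_of_decomp v (fun i => Φ.obj (Z i)) (fun i => Φ.map (a i)) (fun i => Φ.map (b i)) ?_ fun i => ?_
  · simp only [← Functor.map_comp, ← Functor.map_sum, hab]
    exact Φ.map_id Mu
  rcases Nat.eq_zero_or_pos (e i) with h0 | hν
  · haveI : Subsingleton (Z i) := by
      haveI : Subsingleton (ZMod (p i ^ e i)) := by rw [h0, pow_zero]; exact inferInstanceAs (Subsingleton (Fin 1))
      exact inferInstanceAs (Subsingleton (ULift.{u + 1} (ZMod (p i ^ e i))))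
    exact test_of_isZero v (Φ.map_isZero (AddCommGrpCat.isZero_of_subsingleton _))
  refine test_push_zmod v hh f (hp i) (hm.2 _ (hp i) ?_) (e i) hν
  have h1 := hM (E.symm (DirectSum.of (fun i => ZMod (p i ^ e i)) i 1))
  rw [← map_nsmul, AddEquiv.map_eq_zero_iff, ← map_nsmul] at h1
  have h2 := (map_eq_zero_iff _ (DirectSum.of_injective i)).1 h1
  rw [nsmul_one, ZMod.natCast_eq_zero_iff] at h2
  exact (dvd_pow_self _ hν.ne').trans h2

include hh in
/-- Every constructible sheaf killed by an `L`-number embeds in a test object. -/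
theorem exists_test_embedding [CompactSpace U] [QuasiSeparatedSpace U] {F : EtCoh.Ab U}
    (hF : EtPBC.IsConstructible F) (hk : KillsL L F) :
    ∃ (E : EtCoh.Ab U) (i : F ⟶ E), Mono i ∧ KillsL L E ∧ Test v n E := by
  classical
  obtain ⟨m, hm, hmF⟩ := hk
  obtain ⟨k, Y, f, hf, -, M, _, _, ι, hι⟩ := exists_embedding hF
  let M' : Fin k → Type := fun i => (nsmulAddMonoidHom (α := M i) m).ker
  let Φ : Fin k → (AddCommGrpCat.{u + 1} ⥤ EtCoh.Ab U) := fun i =>
    constantSheaf (Y i).smallEtaleTopology AddCommGrpCat.{u + 1} ⋙ EtCoh.push (f i)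
  haveI : ∀ i, (constantSheaf (Y i).smallEtaleTopology AddCommGrpCat.{u + 1}).Additive := fun i => inferInstance
  haveI : ∀ i, (Φ i).Additive := fun i => inferInstance
  haveI : ∀ i, PreservesFiniteLimits (Φ i) := fun i => by
    haveI : PreservesFiniteLimits (EtCoh.push (f i)) :=
      ⟨fun J _ _ => (EtCoh.pullPushAdj (f i)).rightAdjoint_preservesLimits.preservesLimitsOfShape⟩
    haveI : PreservesFiniteLimits (constantSheaf (Y i).smallEtaleTopology AddCommGrpCat.{u + 1}) := by
      unfold constantSheaf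
      exact comp_preservesFiniteLimits _ _
    exact comp_preservesFiniteLimits _ _
  have hlift : ∀ i, ∃ β : F ⟶ (EtCoh.push (f i)).obj (EtCoh.const (Y i) (M' i)),
      ∀ {G : EtCoh.Ab U} (c : G ⟶ F), c ≫ β = 0 → c ≫ ι ≫ biproduct.π _ i = 0 := by
    intro i
    let Mu := AddCommGrpCat.of (ULift.{u + 1} (M i))
    let Mk := AddCommGrpCat.of (ULift.{u + 1} (M' i))
    let j : Mk ⟶ Mu := AddCommGrpCat.ofHom (AddMonoidHom.mk' (fun x => ULift.up x.down.1) fun x y => rfl)
    have hj : j ≫ (m • 𝟙 Mu) = 0 := by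
      refine AddCommGrpCat.hom_ext (AddMonoidHom.ext fun x => ULift.ext _ _ ?_)
      show m • x.down.1 = 0
      exact AddMonoidHom.mem_ker.1 x.down.2
    have hlim : IsLimit (KernelFork.ofι j hj) := by
      refine KernelFork.IsLimit.ofι j hj
        (fun {W} g hg => AddCommGrpCat.ofHom (AddMonoidHom.mk'
          (fun w => ULift.up ⟨(g w).down, ?_⟩) fun a b => ULift.ext _ _ (Subtype.ext (congrArg ULift.down (map_add g.hom a b)))))
        (fun g hg => ?_) (fun g hg g' hg' => ?_)
      · have h' := congrArg (fun k => (k w).down) hg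
        exact AddMonoidHom.mem_ker.2 h'
      · ext w; rfl
      · refine AddCommGrpCat.hom_ext (AddMonoidHom.ext fun w => ULift.ext _ _ (Subtype.ext ?_))
        exact congrArg (fun k => (k w).down) hg'
    have hz : (ι ≫ biproduct.π _ i) ≫ (Φ i).map (m • 𝟙 Mu) = 0 := by
      rw [Functor.map_nsmul, CategoryTheory.Functor.map_id, Preadditive.comp_nsmul]
      erw [Category.comp_id]
      rw [← Category.id_comp (ι ≫ biproduct.π _ i), ← Preadditive.nsmul_comp, hmF, zero_comp]
    obtain ⟨β, hβ⟩ := KernelFork.IsLimit.lift'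
      (KernelFork.mapIsLimit _ hlim (Φ i)) (ι ≫ biproduct.π _ i) hz
    refine ⟨β, fun {G} c hc => ?_⟩
    rw [← hβ, ← Category.assoc]
    erw [hc]
    exact zero_comp
  choose β hβ using hlift
  let I : Fin k → EtCoh.Ab U := fun i => (EtCoh.push (f i)).obj (EtCoh.const (Y i) (M' i))
  have hker : ∀ i (x : M' i), m • x = 0 := fun i x => Subtype.ext x.2
  haveI : Mono (biproduct.lift (f := I) β) := Preadditive.mono_of_cancel_zero _ fun {G} c hc => by
    rw [← cancel_mono ι, zero_comp]
    refine biproduct.hom_ext _ _ fun i => ?_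
    rw [zero_comp, Category.assoc]
    refine hβ i c ?_
    have h3 := hc =≫ biproduct.π I i
    rwa [Category.assoc, biproduct.lift_π, zero_comp] at h3
  refine ⟨biproduct I, biproduct.lift β, inferInstance, ⟨m, hm, biproduct.hom_ext' _ _ fun i => ?_⟩, ?_⟩
  · have h0 : m • 𝟙 (I i) = 0 := by
      show m • 𝟙 ((Φ i).obj (AddCommGrpCat.of (ULift.{u + 1} (M' i)))) = 0
      rw [← (Φ i).map_id, ← Functor.map_nsmul, show m • 𝟙 (AddCommGrpCat.of (ULift.{u + 1} (M' i))) = 0 from
        AddCommGrpCat.hom_ext (AddMonoidHom.ext fun x => ULift.ext _ _ (by simpa using hker i x.down)),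
        Functor.map_zero]
    rw [comp_zero, Preadditive.comp_nsmul, Category.comp_id, ← Category.id_comp (biproduct.ι I i),
      ← Preadditive.nsmul_comp, h0, zero_comp]
  · haveI := hf
    exact test_of_decomp v I (biproduct.π I) (biproduct.ι I) biproduct.total
      fun i => test_push_const v hh (f i) (M' i) hm (hker i)

variable [CompactSpace U] [QuasiSeparatedSpace U] [CompactSpace V] [QuasiSeparatedSpace V]

/-- **Dévissage** from test embeddings. -/
theorem compN_of_testEmb
    (hemb : ∀ G : EtCoh.Ab U, EtPBC.IsConstructible G → KillsL L G →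
      ∃ (E : EtCoh.Ab U) (i : G ⟶ E), Mono i ∧ KillsL L E ∧ Test v n E) :
    EtAcyc.CompN v L n := by
  have reduce_inj : ∀ q, (∀ G : EtCoh.Ab U, EtPBC.IsConstructible G → KillsL L G →
      Function.Injective (EtCore.Hpull v G q)) → ∀ F : EtCoh.Ab U, EtAcyc.IsLTorsion L F →
      Function.Injective (EtCore.Hpull v F q) := fun q h F hF => by
    obtain ⟨hc⟩ := nonempty_isColimit_lGen hF
    exact EtAcDepth.injective_of_colim v hc q fun j => h _ (Stage.isConstructible_obj j.1) (killsL_obj j.1 j.2)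
  have reduce_surj : ∀ q, (∀ G : EtCoh.Ab U, EtPBC.IsConstructible G → KillsL L G →
      Function.Surjective (EtCore.Hpull v G q)) → ∀ F : EtCoh.Ab U, EtAcyc.IsLTorsion L F →
      Function.Surjective (EtCore.Hpull v F q) := fun q h F hF => by
    obtain ⟨hc⟩ := nonempty_isColimit_lGen hF
    exact EtAcDepth.surjective_of_colim v hc q fun j => h _ (Stage.isConstructible_obj j.1) (killsL_obj j.1 j.2)
  have inj0 : ∀ F : EtCoh.Ab U, EtAcyc.IsLTorsion L F → Function.Injective (EtCore.Hpull v F 0) :=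
    reduce_inj 0 fun G hG hk => by
      obtain ⟨E, i, hi, -, hE, -⟩ := hemb G hG hk
      intro x y hxy
      apply Abelian.Ext.postcomp_mk₀_injective_of_mono (EtCoh.const U ℤ) i
      refine hE ((HpullSeq.Hpull_postcomp v i 0 x).trans ?_)
      rw [hxy]
      exact (HpullSeq.Hpull_postcomp v i 0 y).symm
  have surj0 : ∀ F : EtCoh.Ab U, EtAcyc.IsLTorsion L F → Function.Surjective (EtCore.Hpull v F 0) :=
    reduce_surj 0 fun G hG hk z => by
      obtain ⟨E, i, hi, hkE, -, hE⟩ := hemb G hG hk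
      let S := ShortComplex.mk i (cokernel.π i) (cokernel.condition i)
      have hS : S.ShortExact :=
        { exact := ShortComplex.exact_of_g_is_cokernel _ (cokernelIsCokernel i)
          mono_f := hi }
      obtain ⟨t, ht⟩ := hE 0 (Nat.zero_le _)
        (z.comp (Abelian.Ext.mk₀ ((EtCoh.pull v).map i)) (add_zero 0))
      have h0 : t.comp (Abelian.Ext.mk₀ S.g) (add_zero 0) = 0 := by
        refine inj0 _ (EtColim.TorsionPush.isLTorsion_of_epi L (cokernel.π i) hkE.isLTorsion)
          ((HpullSeq.Hpull_postcomp v S.g 0 t).trans ?_)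
        rw [map_zero, show EtCore.Hpull v S.X₂ 0 t = _ from ht,
          Abelian.Ext.comp_assoc_of_second_deg_zero, Abelian.Ext.mk₀_comp_mk₀, ← Functor.map_comp, S.zero,
          Functor.map_zero, Abelian.Ext.mk₀_zero, Abelian.Ext.comp_zero]
      obtain ⟨x, hx⟩ := Abelian.Ext.covariant_sequence_exact₂ _ hS t h0
      refine ⟨x, ?_⟩
      apply Abelian.Ext.postcomp_mk₀_injective_of_mono (EtCoh.const V ℤ) ((EtCoh.pull v).map i)
      refine (HpullSeq.Hpull_postcomp v i 0 x).symm.trans ?_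
      exact (congrArg (EtCore.Hpull v E 0) hx).trans ht
  have main : ∀ q : ℕ, ∀ F : EtCoh.Ab U, EtAcyc.IsLTorsion L F →
      (q ≤ n → Function.Bijective (EtCore.Hpull v F q)) ∧
        (q ≤ n + 1 → Function.Injective (EtCore.Hpull v F q)) := by
    intro q
    induction q with
    | zero => exact fun F hF => ⟨fun _ => ⟨inj0 F hF, surj0 F hF⟩, fun _ => inj0 F hF⟩
    | succ q ih =>
      have hinj : q + 1 ≤ n + 1 → ∀ F : EtCoh.Ab U, EtAcyc.IsLTorsion L F →
          Function.Injective (EtCore.Hpull v F (q + 1)) := fun hqn F hF => by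
        obtain ⟨S, rfl, hS, hQ, I, hI, hX₂⟩ := EtDescSS.CompBC.exists_embedding L hF
        haveI := hI
        have hK : EtAcyc.IsLTorsion L S.X₂ := hX₂ ▸ EtColim.TorsionPush.isLTorsion_kernel L I
        haveI : Subsingleton (EtCoh.H U S.X₂ (q + 1)) := hX₂ ▸ EtDescSS.CompBC.subsingleton_H_kernel L I q
        rw [injective_iff_map_eq_zero]
        intro e he
        obtain ⟨y, rfl⟩ := Abelian.Ext.covariant_sequence_exact₁ _ hS e
          (Subsingleton.elim (α := EtCoh.H U S.X₂ (q + 1)) _ _) (rfl : q + 1 = q + 1)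
        obtain ⟨w', hw'⟩ := Abelian.Ext.covariant_sequence_exact₃ _
          (hS.map_of_exact (EtCoh.pull v)) _ (rfl : q + 1 = q + 1)
          ((HpullSeq.Hpull_extClass v hS q y).symm.trans he)
        obtain ⟨w₀, rfl⟩ := ((ih S.X₂ hK).1 (by omega)).2 w'
        have hy : y = w₀.comp (Abelian.Ext.mk₀ S.g) (add_zero q) :=
          ((ih S.X₃ hQ).1 (by omega)).1 (hw'.symm.trans (HpullSeq.Hpull_postcomp v S.g q w₀).symm)
        rw [hy, Abelian.Ext.comp_assoc_of_second_deg_zero, hS.comp_extClass, Abelian.Ext.comp_zero]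
      refine fun F hF => ⟨fun hqn => ⟨hinj (by omega) F hF, reduce_surj (q + 1) (fun G hG hk z => ?_) F hF⟩,
        fun h => hinj h F hF⟩
      obtain ⟨E, i, hi, hkE, -, hE⟩ := hemb G hG hk
      let S := ShortComplex.mk i (cokernel.π i) (cokernel.condition i)
      have hS : S.ShortExact :=
        { exact := ShortComplex.exact_of_g_is_cokernel _ (cokernelIsCokernel i)
          mono_f := hi }
      have hSV := hS.map_of_exact (EtCoh.pull v)
      have hQ : EtAcyc.IsLTorsion L S.X₃ := EtColim.TorsionPush.isLTorsion_of_epi L (cokernel.π i) hkE.isLTorsion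
      obtain ⟨t, ht⟩ := hE (q + 1) hqn
        (z.comp (Abelian.Ext.mk₀ ((EtCoh.pull v).map i)) (add_zero (q + 1)))
      have h0 : t.comp (Abelian.Ext.mk₀ S.g) (add_zero (q + 1)) = 0 := by
        refine hinj (by omega) _ hQ ((HpullSeq.Hpull_postcomp v S.g (q + 1) t).trans ?_)
        rw [map_zero, show EtCore.Hpull v S.X₂ (q + 1) t = _ from ht,
          Abelian.Ext.comp_assoc_of_second_deg_zero, Abelian.Ext.mk₀_comp_mk₀, ← Functor.map_comp, S.zero,
          Functor.map_zero, Abelian.Ext.mk₀_zero, Abelian.Ext.comp_zero]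
      obtain ⟨x, hx⟩ := Abelian.Ext.covariant_sequence_exact₂ _ hS t h0
      have hz : (z - EtCore.Hpull v S.X₁ (q + 1) x).comp (Abelian.Ext.mk₀ (S.map (EtCoh.pull v)).f)
          (add_zero (q + 1)) = 0 := by
        show (z - EtCore.Hpull v S.X₁ (q + 1) x).comp (Abelian.Ext.mk₀ ((EtCoh.pull v).map i)) _ = 0
        rw [sub_eq_add_neg, Abelian.Ext.add_comp, Abelian.Ext.neg_comp, ← sub_eq_add_neg, sub_eq_zero, ← ht, ← hx]
        exact HpullSeq.Hpull_postcomp v S.f (q + 1) x
      obtain ⟨w, hw⟩ := Abelian.Ext.covariant_sequence_exact₁ _ hSV _ hz (rfl : q + 1 = q + 1)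
      obtain ⟨y, rfl⟩ := ((ih S.X₃ hQ).1 (by omega)).2 w
      refine ⟨x + y.comp hS.extClass rfl, ?_⟩
      have e1 : EtCore.Hpull v S.X₁ (q + 1) (y.comp hS.extClass rfl) = z - EtCore.Hpull v S.X₁ (q + 1) x :=
        (HpullSeq.Hpull_extClass v hS q y).trans hw
      show EtCore.Hpull v S.X₁ (q + 1) (x + y.comp hS.extClass rfl) = z
      rw [map_add, e1]
      abel
  exact fun F hF _ => ⟨fun q hq => (main q F hF).1 hq, (main (n + 1) F hF).2 le_rfl⟩

include hh in
/-- **Dévissage.** -/
theorem compN_of_constHyp : EtAcyc.CompN v L n :=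
  compN_of_testEmb v fun _ hG hk => exists_test_embedding v hh hG hk

end Groth.Agent.EtDev
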