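import Groth.Agent.EtDev.GabberZero
import Groth.Agent.EtDev.Devissage

/-!
# Comparison of cohomology on a closed subscheme of a henselian pair
-/

set_option autoImplicit false
set_option backward.isDefEq.respectTransparency false
set_option linter.style.haveILetI false

universe u

open CategoryTheory CategoryTheory.Limits AlgebraicGeometry Opposite

noncomputable section

namespace Groth.Agent.EtDev.GabberAffine

open Groth.Agent Groth.Agent.EtaleSite Groth.Agent.EtConsAb

variable (A : Type u) [CommRing A] (I : Ideal A) [HenselianRing A I]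

/-- The closed immersion. -/
abbrev incl : Spec (CommRingCat.of (A ⧸ I)) ⟶ Spec (CommRingCat.of A) :=
  Spec.map (CommRingCat.ofHom (Ideal.Quotient.mk I))

instance : IsClosedImmersion (incl A I) :=
  IsClosedImmersion.spec_of_surjective _ Ideal.Quotient.mk_surjective

theorem test_piece [PreservesFiniteLimits (EtCoh.pull (incl A I))] {R : CommRingCat.{u}}
    (hR : Curves.IsAIC R) (g : Spec R ⟶ Spec (CommRingCat.of A)) [IsIntegralHom g]
    (M : Type) [AddCommGroup M] [Finite M] (n : ℕ) :
    Test (incl A I) n ((EtCoh.push g).obj (EtCoh.const (Spec R) M)) := by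
  haveI : Finite (AddCommGrpCat.of (ULift.{u + 1} M)) := inferInstanceAs (Finite (ULift.{u + 1} M))
  obtain ⟨φ, rfl⟩ := Spec.map_surjective g
  letI : Algebra A R := φ.hom.toAlgebra
  haveI : Algebra.IsIntegral A R := ⟨IsIntegralHom.SpecMap_iff.1 ‹_›⟩
  haveI : HenselianRing R (I.map (algebraMap A R)) := Groth.Agent.S0526.result A I R
  let P := pullback (Spec.map φ) (incl A I)
  let hb : P ⟶ Spec R := pullback.fst (Spec.map φ) (incl A I)
  let pY : P ⟶ Spec (CommRingCat.of (A ⧸ I)) := pullback.snd (Spec.map φ) (incl A I)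
  have sq : IsPullback hb pY (Spec.map φ) (incl A I) := IsPullback.of_hasPullback _ _
  have hr : Set.range hb.base = PrimeSpectrum.zeroLocus ((I.map (algebraMap A R) : Ideal R) : Set R) := by
    rw [show Set.range hb.base = (Spec.map φ).base ⁻¹' Set.range (incl A I).base from
      Scheme.Pullback.range_fst _ _,
      show Set.range (incl A I).base = PrimeSpectrum.zeroLocus (I : Set A) from
        (range_comap_of_surjective _ _ Ideal.Quotient.mk_surjective).trans (by rw [Ideal.mk_ker]),
      show (I.map (algebraMap A R) : Ideal R) = Ideal.span (φ.hom '' (I : Set A)) from rfl,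
      PrimeSpectrum.zeroLocus_span]
    exact PrimeSpectrum.preimage_comap_zeroLocus φ.hom (I : Set A)
  have h0 : Function.Bijective (EtCore.Hpull hb (EtCoh.const (Spec R) M) 0) :=
    GabberZero.Hpull_bijective_of_res hb (AddCommGrpCat.of (ULift.{u + 1} M))
      (GabberZero.bijective_res (AddCommGrpCat.of (ULift.{u + 1} M)) hb (I.map (algebraMap A R)) hr)
  have h := fun q => Hpull_push_iff (incl A I) (Spec.map φ) hb pY sq (EtCoh.const (Spec R) M) q
  refine ⟨(h 0).1.1 h0.1, fun q _ => ?_⟩
  rcases q with _ | q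
  · exact (h 0).2.1 h0.2
  · intro y
    haveI := AicEmbed.subsingleton_H_pull_push (incl A I) hR (Spec.map φ) M q
    exact ⟨0, Subsingleton.elim _ _⟩

theorem Hpull_bijective [PreservesFiniteLimits (EtCoh.pull (incl A I))]
    (F : EtCoh.Ab (Spec (CommRingCat.of A))) (hF : EtCoh.IsTorsion F) (q : ℕ) :
    Function.Bijective (EtCore.Hpull (incl A I) F q) := by
  have hL : EtAcyc.IsLTorsion Set.univ F := fun U s x => by
    obtain ⟨V, g, hv, ht⟩ := hF U s x
    obtain ⟨m, hm, hk⟩ := isOfFinAddOrder_iff_nsmul_eq_zero.1 ht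
    exact ⟨V, g, m, hv, ⟨hm, fun _ _ _ => trivial⟩, hk⟩
  refine ((compN_of_testEmb (incl A I) (L := Set.univ) (n := q) fun G hG _ => ?_) F hL).1 q le_rfl
  classical
  obtain ⟨n, R, haic, g, hg, M, _, _, a, ha⟩ := AicEmbed.exists_aic_embedding hG
  obtain ⟨m, hm, hk⟩ := AicEmbed.isTorsion_biproduct_push g M
  refine ⟨_, a, ha, ⟨m, ⟨hm, fun _ _ _ => trivial⟩, hk⟩, ?_⟩
  exact test_of_decomp (incl A I) (fun i => (EtCoh.push (g i)).obj (EtCoh.const (Spec (R i)) (M i)))
    (biproduct.π _) (biproduct.ι _) biproduct.total fun i => haveI := hg i; test_piece A I (haic i) (g i) (M i) q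

theorem unit_bijective (F : EtCoh.Ab (Spec (CommRingCat.of A))) (hF : EtCoh.IsTorsion F) (q : ℕ) :
    Function.Bijective (Sheaf.H.map ((EtCoh.pullPushAdj (incl A I)).unit.app F) q) := by
  let i := incl A I
  haveI : PreservesFiniteLimits (EtCoh.pull i) := inferInstance
  have key : (pushH i ((EtCoh.pull i).obj F) q) ∘ (Sheaf.H.map ((EtCoh.pullPushAdj i).unit.app F) q) =
      EtCore.Hpull i F q := funext fun x => by
    show pushH i ((EtCoh.pull i).obj F) q _ = _
    rw [pushH, Sheaf.H.map_apply, HpullSeq.Hpull_postcomp, Abelian.Ext.comp_assoc_of_second_deg_zero,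
      Abelian.Ext.mk₀_comp_mk₀]
    erw [(EtCoh.pullPushAdj i).left_triangle_components]
    exact Abelian.Ext.comp_mk₀_id _
  have h := Hpull_bijective A I F hF q
  rw [← key] at h
  exact (Function.Bijective.of_comp_iff' (bijective_pushH i _ q) _).1 h

end Groth.Agent.EtDev.GabberAffine
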