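import Groth.Agent.EtDev.AicEmbed
import Groth.Agent.GalCohAux.AicSect
import Groth.Agent.EtaleSite.HpullComp
import Groth.Agent.S0526

/-!
# Global sections of finite constant sheaves on henselian pairs
-/

set_option autoImplicit false
set_option backward.isDefEq.respectTransparency false
set_option linter.style.haveILetI false

universe u

open CategoryTheory CategoryTheory.Limits AlgebraicGeometry Opposite TopologicalSpace

noncomputable section

namespace Groth.Agent.EtDev.GabberZero

open EtShriek (sectSupp)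
open Groth.Agent.EtShriekLib (notMem_sectSupp_iff)
open Groth.Agent.EtaleSite.ConstSections (cst cSheaf map_cst)
open Groth.Agent.EtaleSite
open Groth.Agent.GalCohAux.AicSect (level level_spec level_eq exists_sect isLocallyConstant_level sect_ext_level)

variable {P S : Scheme.{u}} (v : P ⟶ S) (M : AddCommGrpCat.{u + 1})

/-- Restriction of global sections of the constant sheaf. -/
def res : (EtCore.gsec S).obj (cSheaf S M) ⟶ (EtCore.gsec P).obj (cSheaf P M) :=
  (EtCore.gsec S).map (EtAcDepth.constToPush v M) ≫ (EtCore.pushGsecIso v).hom.app (cSheaf P M)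

/-- `res` as a map of sections. -/
def resS : EtCoh.sect (cSheaf S M) (EtCoh.top S) →+ EtCoh.sect (cSheaf P M) (EtCoh.top P) :=
  (res v M).hom

theorem unit_eq_cst {X : Scheme.{u}} (c : M) :
    (EtCore.constAdj X).unit.app M c = cst (EtCoh.top X) c := by
  simp [EtCore.constAdj, constantSheafAdj, constantPresheafAdj, Adjunction.comp_unit_app]
  rfl

theorem constToPush_eq :
    EtAcDepth.constToPush v M = (EtCoh.pullPushAdj v).homEquiv _ _ ((EtCore.pullConstIso v).hom.app M) := by
  rw [Adjunction.homEquiv_unit]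
  rfl

theorem res_cst (c : M) : resS v M (cst (EtCoh.top S) c) = cst (EtCoh.top P) c := by
  have h := HpullComp.pullConst_homEquiv v M ((EtCore.pullConstIso v).hom.app M)
  rw [Iso.inv_hom_id_app, Adjunction.homEquiv_id, ← constToPush_eq, Adjunction.homEquiv_unit] at h
  rw [← unit_eq_cst, ← unit_eq_cst]
  exact (ConcreteCategory.congr_hom h c).symm

theorem level_res (s : EtCoh.sect (cSheaf S M) (EtCoh.top S)) (x : P) :
    level (U := EtCoh.top P) (resS v M s) x = level (U := EtCoh.top S) s (v x) := by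
  refine level_eq _ ?_
  obtain ⟨V, g, ⟨w, hw⟩, hz⟩ := (notMem_sectSupp_iff _ _ _).1 (level_spec (U := EtCoh.top S) s (v x))
  have hsq : V.hom w = v x := by
    have hg : g.left ≫ (EtCoh.top S).hom = V.hom := MorphismProperty.Over.w g
    rw [← hg, Scheme.Hom.comp_apply]
    exact hw
  obtain ⟨z, -, hz2⟩ := Scheme.Pullback.exists_preimage_pullback (f := V.hom) (g := v) w x hsq
  refine (notMem_sectSupp_iff _ _ _).2
    ⟨(EtCoh.bc v).obj V, (EtCoh.bc v).map g ≫ (EtCore.bcTopIso v).hom, ⟨z, ?_⟩, ?_⟩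
  · have hG : ((EtCoh.bc v).map g ≫ (EtCore.bcTopIso v).hom).left ≫ (EtCoh.top P).hom =
        ((EtCoh.bc v).obj V).hom := MorphismProperty.Over.w _
    exact ((ConcreteCategory.congr_hom (congrArg (fun k : _ ⟶ P => k.base) hG) z)).trans hz2
  · have e : resS v M s - cst (EtCoh.top P) (level (U := EtCoh.top S) s (v x)) =
        resS v M (s - cst (EtCoh.top S) (level (U := EtCoh.top S) s (v x))) := by
      rw [map_sub, res_cst]
    rw [e]
    let t := s - cst (EtCoh.top S) (level (U := EtCoh.top S) s (v x))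
    show (cSheaf P M).obj.map ((EtCoh.bc v).map g ≫ (EtCore.bcTopIso v).hom).op
      ((cSheaf P M).obj.map (EtCore.bcTopIso v).inv.op
        ((EtAcDepth.constToPush v M).hom.app (op (EtCoh.top S)) t)) = 0
    rw [← ConcreteCategory.comp_apply, ← Functor.map_comp, ← op_comp, Category.assoc, Iso.hom_inv_id,
      Category.comp_id]
    refine (NatTrans.naturality_apply (EtAcDepth.constToPush v M).hom g.op t).symm.trans ?_
    rw [hz, map_zero]

theorem Hpull_bijective_of_res [PreservesFiniteLimits (EtCoh.pull v)] (h : Function.Bijective (resS v M)) :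
    Function.Bijective (EtCore.Hpull v (cSheaf S M) 0) := by
  haveI : IsIso (res v M) := (ConcreteCategory.isIso_iff_bijective _).2 h
  let ν := (EtCore.pullConstIso v).app M
  let Z := AddCommGrpCat.of (ULift.{u + 1} ℤ)
  let ψ : (cSheaf S Z ⟶ cSheaf S M) → (cSheaf P Z ⟶ cSheaf P M) :=
    fun a => (EtCore.pullConstIso v).inv.app Z ≫ (EtCoh.pull v).map a ≫ ν.hom
  have key : ∀ a, (EtCore.constAdj P).homEquiv _ _ (ψ a) =
      (EtCore.constAdj S).homEquiv _ _ a ≫ res v M := fun a => by
    refine (HpullComp.pullConst_homEquiv v Z ((EtCoh.pull v).map a ≫ ν.hom)).trans ?_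
    rw [Adjunction.homEquiv_naturality_left, show (EtCoh.pullPushAdj v).homEquiv _ _ ν.hom =
      EtAcDepth.constToPush v M from (constToPush_eq v M).symm, Adjunction.homEquiv_naturality_right,
      Category.assoc]
    rfl
  have hψ : Function.Bijective ψ := by
    refine (Function.Bijective.of_comp_iff' ((EtCore.constAdj P).homEquiv Z (cSheaf P M)).bijective ψ).1 ?_
    rw [show ((EtCore.constAdj P).homEquiv Z (cSheaf P M)) ∘ ψ =
      (fun b => b ≫ res v M) ∘ ((EtCore.constAdj S).homEquiv Z (cSheaf S M)) from funext key]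
    exact (Function.bijective_iff_has_inverse.2 ⟨fun b => b ≫ inv (res v M),
      fun b => by simp, fun b => by simp⟩).comp (Equiv.bijective _)
  have e : (fun z : EtCoh.H P ((EtCoh.pull v).obj (cSheaf S M)) 0 =>
      z.comp (Abelian.Ext.mk₀ ν.hom) (add_zero 0)) ∘ EtCore.Hpull v (cSheaf S M) 0 ∘
        Abelian.Ext.mk₀ = Abelian.Ext.mk₀ ∘ ψ := funext fun a => by
    refine (congrArg (fun z => Abelian.Ext.comp z (Abelian.Ext.mk₀ ν.hom) (add_zero 0))
      (HpullComp.Hpull_mk₀ v a)).trans ?_
    rw [Abelian.Ext.mk₀_comp_mk₀, Category.assoc]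
    rfl
  have h2 := (Abelian.Ext.mk₀_bijective (cSheaf P Z) (cSheaf P M)).comp hψ
  rw [← e] at h2
  have h3 := (Function.Bijective.of_comp_iff' (HpullComp.HF_map_bijective ν.hom) _).1 h2
  exact (Function.Bijective.of_comp_iff _ (Abelian.Ext.mk₀_bijective _ _)).1 h3

section Henselian

variable {R : CommRingCat.{u}} (hb : P ⟶ Spec R) [IsClosedImmersion hb] (J : Ideal R) [HenselianRing R J]
  (hr : Set.range hb.base = PrimeSpectrum.zeroLocus (J : Set R))

include hr in
theorem mem_range_of_isMax (p : Spec R) (hp : p.asIdeal.IsMaximal) : p ∈ Set.range hb.base := by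
  rw [hr]
  exact fun x hx => Ideal.mem_sInf.1 (HenselianRing.jac (R := R) (I := J) hx) ⟨bot_le, hp⟩

include hr in
theorem eq_univ_of_isClosed_compl {C : Set (Spec R)} (hC : IsClosed Cᶜ)
    (h : ∀ x : P, hb x ∈ C) : C = Set.univ := by
  by_contra hne
  obtain ⟨p, hp, hcl⟩ := hC.exists_closed_singleton (Set.nonempty_compl.2 hne)
  obtain ⟨x, rfl⟩ := mem_range_of_isMax hb J hr p ((PrimeSpectrum.isClosed_singleton_iff_isMaximal p).1 hcl)
  exact hp (h x)

include hr in
theorem exists_clopen_lift {C : Set P} (hC : IsClopen C) :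
    ∃ C' : Set (Spec R), IsClopen C' ∧ ∀ x : P, hb x ∈ C' ↔ x ∈ C := by
  let π := Ideal.Quotient.mk J
  let c : PrimeSpectrum (R ⧸ J) → Spec R := PrimeSpectrum.comap π
  have hcr : Set.range c = Set.range hb.base := by
    rw [hr, range_comap_of_surjective _ _ Ideal.Quotient.mk_surjective, Ideal.mk_ker]
  have hemb := hb.isClosedEmbedding
  have hK : IsClopen (c ⁻¹' (hb '' C)) := by
    have hc : Continuous c := PrimeSpectrum.continuous_comap π
    refine ⟨(hemb.isClosedMap _ hC.1).preimage hc, ?_⟩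
    rw [← isClosed_compl_iff, show (c ⁻¹' (hb '' C))ᶜ = c ⁻¹' (hb '' Cᶜ) from ?_]
    · exact (hemb.isClosedMap _ hC.compl.1).preimage hc
    ext y
    obtain ⟨x, hx⟩ : c y ∈ Set.range hb.base := hcr ▸ ⟨y, rfl⟩
    simp only [Set.mem_compl_iff, Set.mem_preimage, ← hx, hemb.injective.mem_set_image]
  obtain ⟨ε, hε, hεK⟩ := PrimeSpectrum.isClopen_iff.1 hK
  obtain ⟨a, rfl⟩ := Ideal.Quotient.mk_surjective ε
  have hsq : a * a - a ∈ J := by
    rw [← Ideal.Quotient.eq_zero_iff_mem, map_sub, map_mul, hε.eq, sub_self]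
  have hu : IsUnit (π (2 * a - 1)) := by
    refine IsUnit.of_mul_eq_one (π (2 * a - 1)) ?_
    rw [← map_mul, ← map_one π, Ideal.Quotient.eq,
      show (2 * a - 1) * (2 * a - 1) - 1 = 4 * (a * a - a) by ring]
    exact Ideal.mul_mem_left _ _ hsq
  obtain ⟨e, he, hea⟩ := HenselianRing.is_henselian (I := J) (Polynomial.X ^ 2 - Polynomial.X)
    (Polynomial.monic_X_pow_sub (Polynomial.degree_X_le.trans_lt (by norm_num))) a
    (by simpa [sq] using hsq) (by
      rw [show (Polynomial.derivative (Polynomial.X ^ 2 - Polynomial.X : Polynomial R)).eval a = 2 * a - 1 by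
        simp [one_add_one_eq_two]]
      exact hu)
  have hee : IsIdempotentElem e := by
    have h0 : (Polynomial.X ^ 2 - Polynomial.X : Polynomial R).eval e = 0 := he
    simpa [IsIdempotentElem, pow_two, sub_eq_zero] using h0
  refine ⟨(PrimeSpectrum.basicOpen e : Set (PrimeSpectrum R)), PrimeSpectrum.isClopen_iff.2 ⟨e, hee, rfl⟩, fun x => ?_⟩
  obtain ⟨y, hy⟩ : hb x ∈ Set.range c := hcr ▸ ⟨x, rfl⟩
  rw [← hy]
  have h1 : π e = π a := Ideal.Quotient.eq.2 hea
  have h2 : c y ∈ (PrimeSpectrum.basicOpen e : Set (PrimeSpectrum R)) ↔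
      y ∈ (PrimeSpectrum.basicOpen (π a) : Set (PrimeSpectrum (R ⧸ J))) := by
    show e ∉ (c y).asIdeal ↔ π a ∉ y.asIdeal
    rw [← h1]
    rfl
  rw [h2, ← hεK, Set.mem_preimage, hy, hemb.injective.mem_set_image]

include hr in
theorem bijective_res [Finite M] : Function.Bijective (resS hb M) := by
  classical
  refine ⟨fun s t hst => sect_ext_level (U := EtCoh.top (Spec R)) s t fun p => ?_, fun s' => ?_⟩
  · let C : Set (Spec R) := {p | level (U := EtCoh.top (Spec R)) s p = level (U := EtCoh.top (Spec R)) t p}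
    have hC : IsClosed Cᶜ := by
      have hl := ((isLocallyConstant_level (U := EtCoh.top (Spec R)) s).comp₂
        (isLocallyConstant_level (U := EtCoh.top (Spec R)) t) Prod.mk) |>.isOpen_fiber
      rw [isClosed_compl_iff, show C = ⋃ c : M, (fun p => (level (U := EtCoh.top (Spec R)) s p,
        level (U := EtCoh.top (Spec R)) t p)) ⁻¹' {(c, c)} by
          ext p; simp [C, eq_comm]]
      exact isOpen_iUnion fun c => hl (c, c)
    refine Set.eq_univ_iff_forall.1 (eq_univ_of_isClosed_compl hb J hr hC fun x => ?_) p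
    show _ = _
    rw [← level_res, ← level_res, hst]
  · let a : P → M := fun x => level (U := EtCoh.top P) s' x
    have ha : IsLocallyConstant a := isLocallyConstant_level (U := EtCoh.top P) s'
    choose C hC hCx using fun m : M => exists_clopen_lift hb J hr
      (show IsClopen {x | a x = m} from ha.isClopen_fiber m)
    have hcov : (⋃ m, C m) = Set.univ := eq_univ_of_isClosed_compl hb J hr
      (isOpen_iUnion fun m => (hC m).2).isClosed_compl
      fun x => Set.mem_iUnion.2 ⟨a x, (hCx _ x).2 rfl⟩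
    have hdisj : ∀ m m' p, p ∈ C m → p ∈ C m' → m = m' := fun m m' p h1 h2 => by
      by_contra hne
      refine (Set.eq_univ_iff_forall.1 (eq_univ_of_isClosed_compl hb J hr
        (C := (C m ∩ C m')ᶜ) (by rw [compl_compl]; exact (hC m).1.inter (hC m').1) fun x hx => ?_) p) ⟨h1, h2⟩
      exact hne (((hCx m x).1 hx.1).symm.trans ((hCx m' x).1 hx.2))
    choose f hf using fun p => Set.mem_iUnion.1 (Set.eq_univ_iff_forall.1 hcov p)
    have hfl : IsLocallyConstant f := IsLocallyConstant.iff_isOpen_fiber.2 fun m => by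
      rw [show f ⁻¹' {m} = C m from Set.ext fun p => ⟨fun h => h ▸ hf p, fun h => hdisj _ _ p (hf p) h⟩]
      exact (hC m).2
    obtain ⟨s, hs⟩ := exists_sect (U := EtCoh.top (Spec R)) f hfl
    refine ⟨s, sect_ext_level (U := EtCoh.top P) _ _ fun x => ?_⟩
    rw [level_res, level_eq (U := EtCoh.top (Spec R)) s (hs (hb x))]
    exact hdisj _ _ (hb x) (hf _) ((hCx (a x) x).2 rfl)

end Henselian

end Groth.Agent.EtDev.GabberZero
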