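import Groth.Agent.EtAcDepth.FibreLimit
import Groth.Agent.EtaleSite.HpullComp
import Groth.Agent.EtaleSite.AdjExt
import Groth.Agent.EtDescSS.CompBCDesc

/-!
# The comparison map on cohomology and direct images along integral morphisms
-/

set_option autoImplicit false
set_option backward.isDefEq.respectTransparency false

universe u

open CategoryTheory CategoryTheory.Limits AlgebraicGeometry Opposite

noncomputable section

namespace Groth.Agent.EtDev

open Groth.Agent Groth.Agent.EtaleSite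

variable {A B : Scheme.{u}}

/-- `e ↦ f^* e ≫ counit`. -/
def pushH (f : A ⟶ B) [PreservesFiniteLimits (EtCoh.pull f)] (G : EtCoh.Ab A) (q : ℕ)
    (e : EtCoh.H B ((EtCoh.push f).obj G) q) : EtCoh.H A G q :=
  (EtCore.Hpull f _ q e).comp (Abelian.Ext.mk₀ ((EtCoh.pullPushAdj f).counit.app G)) (add_zero q)

theorem bijective_pushH (f : A ⟶ B) [IsIntegralHom f] [PreservesFiniteLimits (EtCoh.pull f)]
    (G : EtCoh.Ab A) (q : ℕ) : Function.Bijective (pushH f G q) := by
  have hψ : Function.Bijective (fun x : Abelian.Ext ((EtCoh.pull f).obj (EtCoh.const B ℤ)) G q =>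
      (Abelian.Ext.mk₀ (EtCore.pullConst f ℤ).inv).comp x (zero_add q)) := by
    refine Function.bijective_iff_has_inverse.2
      ⟨fun x => (Abelian.Ext.mk₀ (EtCore.pullConst f ℤ).hom).comp x (zero_add q), ?_, ?_⟩ <;>
    · intro x
      simp
  have h : pushH f G q = (fun x : Abelian.Ext ((EtCoh.pull f).obj (EtCoh.const B ℤ)) G q =>
      (Abelian.Ext.mk₀ (EtCore.pullConst f ℤ).inv).comp x (zero_add q)) ∘
      AdjExt.toExt (EtCoh.pullPushAdj f) (EtCoh.const B ℤ) G q := funext fun e => by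
    exact Abelian.Ext.comp_assoc _ _ _ (zero_add q) (add_zero q) (by omega)
  rw [h]
  exact hψ.comp (AdjExt.toExt_bijective (EtCoh.pullPushAdj f) q _ _ fun i hi =>
    Groth.Agent.S3054.result f G i hi)

variable {X Y Xb Yb : Scheme.{u}} (h : Y ⟶ X) (p : Xb ⟶ X) (hb : Yb ⟶ Xb) (pY : Yb ⟶ Y)
  (sq : IsPullback hb pY p h) [IsIntegralHom p]
  [PreservesFiniteLimits (EtCoh.pull h)] [PreservesFiniteLimits (EtCoh.pull hb)]

include sq in
/-- `Hpull h` on a direct image along an integral morphism is `Hpull` of the base change of `h`. -/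
theorem Hpull_push_iff (G : EtCoh.Ab Xb) (q : ℕ) :
    (Function.Injective (EtCore.Hpull hb G q) ↔
      Function.Injective (EtCore.Hpull h ((EtCoh.push p).obj G) q)) ∧
    (Function.Surjective (EtCore.Hpull hb G q) ↔
      Function.Surjective (EtCore.Hpull h ((EtCoh.push p).obj G) q)) := by
  haveI : IsIntegralHom pY := MorphismProperty.of_isPullback sq ‹IsIntegralHom p›
  haveI : PreservesFiniteLimits (EtCoh.pull p) := inferInstance
  haveI : PreservesFiniteLimits (EtCoh.pull pY) := inferInstance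
  haveI : PreservesFiniteLimits (EtCoh.pull (pY ≫ h)) := inferInstance
  haveI : PreservesFiniteLimits (EtCoh.pull (hb ≫ p)) := inferInstance
  let F := (EtCoh.push p).obj G
  let β := EtCoh.baseChange0 p h pY hb sq.w G
  haveI : IsIso β := EtaleSite.isIso_baseChange0_integral p h pY hb sq G
  let m : (EtCoh.pull (pY ≫ h)).obj F ⟶ (EtCoh.pull hb).obj G :=
    (EtCore.pullCongr sq.w).inv.app F ≫ (EtCore.pullComp hb p).hom.app F ≫
      (EtCoh.pull hb).map ((EtCoh.pullPushAdj p).counit.app G)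
  have hid : (EtCoh.pullPushAdj p).homEquiv F G ((EtCoh.pullPushAdj p).counit.app G) = 𝟙 _ := by
    rw [Adjunction.homEquiv_unit]
    exact (EtCoh.pullPushAdj p).right_triangle_components G
  have e : (EtCore.pullComp pY h).hom.app F ≫ (EtCoh.pull pY).map β ≫
      (EtCoh.pullPushAdj pY).counit.app ((EtCoh.pull hb).obj G) = m := by
    have := EtDescSS.CompBCDesc.coef_eq h p hb pY sq.w (F := F) (M := G) ((EtCoh.pullPushAdj p).counit.app G)
    rw [hid] at this
    rw [show (EtCoh.pull h).map (𝟙 F) ≫ β = β from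
      (congrArg (· ≫ β) ((EtCoh.pull h).map_id F)).trans (Category.id_comp β)] at this
    exact this
  have key : ∀ x : EtCoh.H X F q,
      pushH pY ((EtCoh.pull hb).obj G) q
          ((EtCore.Hpull h F q x).comp (Abelian.Ext.mk₀ β) (add_zero q)) =
        EtCore.Hpull hb G q (pushH p G q x) := by
    intro x
    have el : pushH pY ((EtCoh.pull hb).obj G) q
        ((EtCore.Hpull h F q x).comp (Abelian.Ext.mk₀ β) (add_zero q)) =
        (EtCore.Hpull (pY ≫ h) F q x).comp (Abelian.Ext.mk₀ m) (add_zero q) := by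
      rw [pushH, HpullSeq.Hpull_postcomp, Abelian.Ext.comp_assoc_of_second_deg_zero,
        Abelian.Ext.mk₀_comp_mk₀, ← HpullComp.Hpull_comp pY h q F x,
        Abelian.Ext.comp_assoc_of_second_deg_zero, Abelian.Ext.mk₀_comp_mk₀, e]
    have congr' : ∀ {f f' : Yb ⟶ X} (w : f = f') [PreservesFiniteLimits (EtCoh.pull f)]
        [PreservesFiniteLimits (EtCoh.pull f')],
        (EtCore.Hpull f' F q x).comp (Abelian.Ext.mk₀ ((EtCore.pullCongr w).inv.app F)) (add_zero q) =
          EtCore.Hpull f F q x := by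
      intro f f' w _ _
      subst w
      simp [EtCore.pullCongr]
    rw [el, pushH, HpullSeq.Hpull_postcomp, ← HpullComp.Hpull_comp hb p q F x,
      ← congr' sq.w, Abelian.Ext.comp_assoc_of_second_deg_zero, Abelian.Ext.mk₀_comp_mk₀,
      Abelian.Ext.comp_assoc_of_second_deg_zero, Abelian.Ext.mk₀_comp_mk₀]
  have hp := bijective_pushH p G q
  have hY := bijective_pushH pY ((EtCoh.pull hb).obj G) q
  have hc : Function.Bijective (fun e : EtCoh.H Y ((EtCoh.pull h).obj F) q =>
      pushH pY ((EtCoh.pull hb).obj G) q (e.comp (Abelian.Ext.mk₀ β) (add_zero q))) :=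
    hY.comp (HpullComp.HF_map_bijective β)
  refine ⟨⟨fun hi a b hab => hp.1 (hi ?_), fun hi a b hab => ?_⟩,
    ⟨fun hs y => ?_, fun hs y => ?_⟩⟩
  · rw [← key a, ← key b, hab]
  · obtain ⟨a, rfl⟩ := hp.2 a
    obtain ⟨b, rfl⟩ := hp.2 b
    rw [← key, ← key] at hab
    rw [hi (hc.1 hab)]
  · obtain ⟨z, hz⟩ := hs (pushH pY ((EtCoh.pull hb).obj G) q (y.comp (Abelian.Ext.mk₀ β) (add_zero q)))
    obtain ⟨x, rfl⟩ := hp.2 z
    rw [← key] at hz
    exact ⟨x, hc.1 hz⟩
  · obtain ⟨z, hz⟩ := hc.2 y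
    obtain ⟨x, hx⟩ := hs z
    exact ⟨pushH p G q x, by rw [← key x, hx]; exact hz⟩

end Groth.Agent.EtDev
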