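import Groth.Agent.EtDev.UnitLocal
import Groth.Agent.EtAcDepth.FibreLimit
import Groth.Agent.EtaleSite.OpenImm
import Mathlib.AlgebraicGeometry.ZariskisMainTheorem

/-!
# Acyclicity is stable under quasi-finite base change
-/

set_option autoImplicit false
set_option backward.isDefEq.respectTransparency false
set_option linter.style.haveILetI false

universe u

open CategoryTheory CategoryTheory.Limits AlgebraicGeometry Opposite

noncomputable section

namespace Groth.Agent.EtDev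

open Groth.Agent Groth.Agent.EtaleSite

variable {Y Y' : Scheme.{u}} (i : Y' ⟶ Y)

/-- Étale schemes over `Y'` finite over affine étale schemes over `Y`. -/
def FiniteOverEtale (W : Y'.Etale) : Prop :=
  IsAffine W.left ∧ ∃ (Z : Y.Etale) (p : W.left ⟶ Z.left),
    IsAffine Z.left ∧ IsFinite p ∧ p ≫ Z.hom = W.hom ≫ i

variable [LocallyQuasiFinite i] [LocallyOfFiniteType i]

/-- Étale-locally a quasi-finite morphism is finite. -/
theorem exists_finite_refine {U : Y'.Etale} {Ω : Type u} [Field Ω] [IsSepClosed Ω]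
    {ξ : Spec (CommRingCat.of Ω) ⟶ Y'} (φ : (Scheme.pointSmallEtale ξ).fiber.obj U) :
    ∃ (W : Y'.Etale) (g : W ⟶ U) (ψ : (Scheme.pointSmallEtale ξ).fiber.obj W),
      FiniteOverEtale i W ∧ (Scheme.pointSmallEtale ξ).fiber.map g ψ = φ := by
  haveI : Etale U.hom := U.prop
  haveI : LocallyQuasiFinite U.hom := inferInstance
  let x₀ : U.left := φ.left (default : Spec (CommRingCat.of Ω))
  obtain ⟨S, hS, hxS, -⟩ := exists_isAffineOpen_mem_and_subset (X := Y) (U := ⊤)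
    (x := (U.hom ≫ i) x₀) trivial
  obtain ⟨A, hA, hxA, hAS⟩ := exists_isAffineOpen_mem_and_subset (X := U.left)
    (U := (U.hom ≫ i) ⁻¹ᵁ S) (x := x₀) hxS
  haveI : IsAffine S.toScheme := hS
  haveI : IsAffine A.toScheme := hA
  let f : A.toScheme ⟶ S.toScheme := IsOpenImmersion.lift S.ι (A.ι ≫ U.hom ≫ i) (by
    rintro _ ⟨a, rfl⟩
    rw [Scheme.Opens.range_ι]
    exact hAS a.2)
  have hf : f ≫ S.ι = A.ι ≫ U.hom ≫ i := IsOpenImmersion.lift_fac _ _ _
  haveI : LocallyOfFiniteType (f ≫ S.ι) := hf ▸ inferInstance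
  haveI : LocallyQuasiFinite (f ≫ S.ι) := hf ▸ inferInstance
  haveI : LocallyOfFiniteType f := locallyOfFiniteType_of_comp f S.ι
  haveI : LocallyQuasiFinite f := LocallyQuasiFinite.of_comp f S.ι
  haveI : IsSeparated f := inferInstance
  let a : A.toScheme := ⟨x₀, hxA⟩
  obtain ⟨Z₀, g₀, hg, -, V, V', v, -, hfin, hv⟩ := exists_etale_isCompl_of_quasiFiniteAt f
    (x := a) (s := f a) rfl (f.quasiFiniteAt a)
  haveI := hfin
  haveI := hg
  let q : V.toScheme ⟶ Z₀ := V.ι ≫ pullback.snd f g₀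
  obtain ⟨T, hT, hvT, -⟩ := exists_isAffineOpen_mem_and_subset (X := Z₀) (U := ⊤) (x := q v) trivial
  haveI : IsAffine T.toScheme := hT
  let Z : Y.Etale := MorphismProperty.Over.mk ⊤ (T.ι ≫ g₀ ≫ S.ι) (inferInstanceAs (Etale (T.ι ≫ g₀ ≫ S.ι)))
  let p : (q ⁻¹ᵁ T).toScheme ⟶ T.toScheme := q ∣_ T
  haveI : IsFinite p := IsZariskiLocalAtTarget.restrict hfin T
  haveI : IsAffine (q ⁻¹ᵁ T).toScheme := isAffine_of_isAffineHom p
  let w : (q ⁻¹ᵁ T).toScheme ⟶ U.left := (q ⁻¹ᵁ T).ι ≫ V.ι ≫ pullback.fst f g₀ ≫ A.ι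
  haveI : Etale (pullback.fst f g₀) := MorphismProperty.pullback_fst _ _ hg
  haveI : Etale w := inferInstance
  let W : Y'.Etale := MorphismProperty.Over.mk ⊤ (w ≫ U.hom) (inferInstanceAs (Etale (w ≫ U.hom)))
  let g : W ⟶ U := MorphismProperty.Over.homMk w rfl trivial
  have hw : ∀ b : Spec (CommRingCat.of Ω), g.left ⟨v, hvT⟩ = φ.left b := fun b =>
    (show A.ι (pullback.fst f g₀ (V.ι v)) = x₀ from congrArg A.ι hv).trans
      (congrArg (fun k => φ.left k) (Subsingleton.elim (α := Spec (CommRingCat.of Ω)) _ _))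
  obtain ⟨ψ, hψ⟩ := EtConsAb.exists_fiber_lift g φ ⟨v, hvT⟩ (hw _)
  refine ⟨W, g, ψ, ⟨‹_›, Z, p, hT, ‹_›, ?_⟩, hψ⟩
  show (q ∣_ T) ≫ T.ι ≫ g₀ ≫ S.ι = (w ≫ U.hom) ≫ i
  rw [morphismRestrict_ι_assoc]
  simp only [q, w, Category.assoc]
  rw [← pullback.condition_assoc, hf]

/-- The comparison holds after a quasi-finite base change. -/
theorem unit_quasiFinite {X : Scheme.{u}} (g : X ⟶ Y) [QuasiCompact g] [QuasiSeparated g] (L : Set ℕ) (n : ℕ)
    (hg : EtAcyc.IsAcyclicN g L n) (F : EtCoh.Ab Y') (hF : EtAcyc.IsLTorsion L F) :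
    IsIso ((EtCoh.pullPushAdj (pullback.snd g i)).unit.app F) ∧
      ∀ q : ℕ, 1 ≤ q → q ≤ n →
        IsZero ((EtCoh.Rpush (pullback.snd g i) q).obj ((EtCoh.pull (pullback.snd g i)).obj F)) := by
  refine unit_of_compN (pullback.snd g i) (FiniteOverEtale i) (fun φ => exists_finite_refine i φ) L n
    (fun W hW => ?_) F hF
  obtain ⟨hWa, Z, p, hZ, hp, hpZ⟩ := hW
  haveI := hWa
  haveI := hZ
  haveI := hp
  haveI : QuasiCompact (EtAcyc.prj g Z) := MorphismProperty.pullback_fst _ _ ‹_›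
  haveI : QuasiSeparated (EtAcyc.prj g Z) := MorphismProperty.pullback_fst _ _ ‹_›
  refine ⟨pullback (pullback.snd g i) W.hom, pullback.fst _ _, pullback.snd _ _,
    IsPullback.of_hasPullback _ _, ?_⟩
  let π : pullback p (EtAcyc.prj g Z) ≅ pullback (pullback.snd g i) W.hom :=
    pullbackRightPullbackFstIso Z.hom g p ≪≫ pullback.congrHom hpZ rfl ≪≫ pullbackSymmetry _ _ ≪≫
      (pullbackLeftPullbackSndIso g i W.hom).symm
  have hc : EtAcyc.CompN (pullback.fst p (EtAcyc.prj g Z)) L n :=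
    EtAcDepth.compN_integral (EtAcyc.prj g Z) p (pullback.fst p (EtAcyc.prj g Z)) (pullback.snd _ _)
      (IsPullback.of_hasPullback _ _) L n (hg Z)
  have e : pullback.snd (pullback.snd g i) W.hom = π.inv ≫ pullback.fst p (EtAcyc.prj g Z) := by
    rw [Iso.eq_inv_comp]
    simp [π]
  rw [e]
  exact (S3513.compN_comp_iff _ _ L n (S3513.compN_of_iso _ L n)).2 hc

end Groth.Agent.EtDev
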