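import Groth.Agent.EtAcDepth.UnitCrit

/-!
# Units and higher direct images from a refining class of étale schemes
-/

set_option autoImplicit false
set_option backward.isDefEq.respectTransparency false

universe u

open CategoryTheory CategoryTheory.Limits AlgebraicGeometry Opposite

noncomputable section

namespace Groth.Agent.EtDev

open Groth.Agent Groth.Agent.EtaleSite Groth.Agent.EtAcDepth

variable {X Y : Scheme.{u}} (f : X ⟶ Y) (Q : Y.Etale → Prop)
  (hQ : ∀ {U : Y.Etale} {Ω : Type u} [Field Ω] [IsSepClosed Ω] {ξ : Spec (CommRingCat.of Ω) ⟶ Y}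
    (φ : (Scheme.pointSmallEtale ξ).fiber.obj U), ∃ (W : Y.Etale) (g : W ⟶ U)
      (ψ : (Scheme.pointSmallEtale ξ).fiber.obj W), Q W ∧ (Scheme.pointSmallEtale ξ).fiber.map g ψ = φ)

include hQ in
/-- Sections at `W` through the restriction to `W`. -/
theorem isIso_of_pull_top {G G' : EtCoh.Ab Y} (a : G ⟶ G')
    (h : ∀ W : Y.Etale, Q W →
      Function.Bijective fun k : EtCoh.const W.left ℤ ⟶ (EtCoh.pull W.hom).obj G =>
        k ≫ (EtCoh.pull W.hom).map a) : IsIso a := by
  suffices hb : ∀ W : Y.Etale, Q W → Function.Bijective (a.hom.app (op W)) by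
    refine isIso_of_stalk a fun Ω _ _ ξ => (ConcreteCategory.isIso_iff_bijective _).2 ⟨?_, fun y => ?_⟩
    · rw [injective_iff_map_eq_zero]
      intro x hx
      obtain ⟨U, φ, s, rfl⟩ := exists_germ_eq ξ G x
      rw [germ_naturality, ← map_zero (germ ξ G' U φ).hom] at hx
      obtain ⟨V, k, v, hv, hV⟩ := (germ_eq_iff ξ G' U φ _ _).1 hx
      obtain ⟨W, g, ψ, hW, hψ⟩ := hQ v
      have h0 : G.obj.map g.op (G.obj.map k.op s) = 0 := by
        refine (hb W hW).1 ?_
        rw [NatTrans.naturality_apply a.hom g.op, NatTrans.naturality_apply a.hom k.op, hV, map_zero, map_zero,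
          map_zero]
      rw [← hv, ← germ_res, ← hψ, ← germ_res, h0, map_zero]
    · obtain ⟨U, φ, s, rfl⟩ := exists_germ_eq ξ G' y
      obtain ⟨W, g, ψ, hW, hψ⟩ := hQ φ
      obtain ⟨t, ht⟩ := (hb W hW).2 (G'.obj.map g.op s)
      refine ⟨germ ξ G W ψ t, ?_⟩
      rw [germ_naturality, ht, germ_res, hψ]
  intro W hW
  have h1 : Function.Bijective (((EtCoh.pull W.hom).map a).hom.app (op (EtCoh.top W.left))) := by
    refine (Function.Bijective.of_comp_iff _ (Flasque.evTop_bijective ((EtCoh.pull W.hom).obj G))).1 ?_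
    refine (congrArg Function.Bijective ?_).mpr ((Flasque.evTop_bijective ((EtCoh.pull W.hom).obj G')).comp (h W hW))
    funext k
    exact (Flasque.evTop_comp k _).symm
  let j : EtCoh.top W.left ⟶ (EtCoh.bc W.hom).obj W :=
    MorphismProperty.Over.homMk (pullback.lift (𝟙 _) (𝟙 _) rfl) (pullback.lift_snd _ _ _) trivial
  have hj : IsIso (j.left ≫ pullback.fst W.hom W.hom) := by
    rw [show j.left ≫ pullback.fst W.hom W.hom = 𝟙 _ from pullback.lift_fst _ _ _]; infer_instance
  refine (Function.Bijective.of_comp_iff' (EtaleBC0.bijective_pullSect_restr W.hom G' j hj) _).1 ?_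
  refine (congrArg Function.Bijective ?_).mpr
    (h1.comp (EtaleBC0.bijective_pullSect_restr W.hom G j hj))
  funext s
  show ((EtCoh.pull W.hom).obj G').obj.map j.op (EtConsAb.pullSect W.hom G' W (a.hom.app (op W) s)) =
    ((EtCoh.pull W.hom).map a).hom.app _ (((EtCoh.pull W.hom).obj G).obj.map j.op (EtConsAb.pullSect W.hom G W s))
  refine Eq.trans ?_ (NatTrans.naturality_apply ((EtCoh.pull W.hom).map a).hom j.op _).symm
  refine congrArg _ ?_
  exact ConcreteCategory.congr_hom
    (congrArg (fun k => k.hom.app (op W)) ((EtCoh.pullPushAdj W.hom).unit.naturality a)) s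

include hQ in
/-- A sheaf is zero if it has no sections on any étale scheme. -/
theorem isZero_of_pull_top (G : EtCoh.Ab Y)
    (h : ∀ W : Y.Etale, Q W →
      ∀ k : EtCoh.const W.left ℤ ⟶ (EtCoh.pull W.hom).obj G, k = 0) : IsZero G := by
  haveI : IsIso (0 : G ⟶ G) := isIso_of_pull_top Q hQ 0 fun W hW =>
    ⟨fun k k' _ => (h W hW k).trans (h W hW k').symm, fun k => ⟨0, (h W hW _).trans (h W hW k).symm⟩⟩
  exact (IsZero.iff_id_eq_zero G).2
    ((IsIso.hom_inv_id (0 : G ⟶ G)).symm.trans zero_comp)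

include hQ in
/-- Acyclicity gives isomorphic units and vanishing direct images. -/
theorem unit_of_compN (L : Set ℕ) (n : ℕ)
    (h : ∀ W : Y.Etale, Q W → ∃ (P : Scheme.{u}) (hb : P ⟶ X) (pY : P ⟶ W.left),
      IsPullback hb pY f W.hom ∧ EtAcyc.CompN pY L n)
    (F : EtCoh.Ab Y) (hF : EtAcyc.IsLTorsion L F) :
    IsIso ((EtCoh.pullPushAdj f).unit.app F) ∧
      ∀ q : ℕ, 1 ≤ q → q ≤ n → IsZero ((EtCoh.Rpush f q).obj ((EtCoh.pull f).obj F)) := by
  have key : ∀ W : Y.Etale, EtAcyc.IsLTorsion L ((EtCoh.pull W.hom).obj F) := fun W =>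
    Groth.Agent.S3513.isLTorsion_pull W.hom L F hF
  have hu : ∀ {Z Z' : Scheme.{u}} (π : Z' ⟶ Z), EtAcyc.CompN π L n → ∀ G, EtAcyc.IsLTorsion L G →
      Function.Bijective fun k : EtCoh.const Z ℤ ⟶ G => k ≫ (EtCoh.pullPushAdj π).unit.app G :=
    fun π hπ G hG => (EtDescSS.CompBC.bijective_map_iff π (EtCoh.const _ ℤ) G).1
      ((EtDescSS.CompBC.bijective_Hpull_zero_iff π G).1 ((hπ G hG).1 0 (Nat.zero_le _)))
  have hunit : IsIso ((EtCoh.pullPushAdj f).unit.app F) := by
    refine isIso_of_pull_top Q hQ _ fun W hW => ?_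
    obtain ⟨P, hb, pY, sq, hc⟩ := h W hW
    haveI := EtaleBC0.isIso_baseChange0 f W.hom pY hb sq ((EtCoh.pull f).obj F)
    have e := EtRamLib.Kummer.Cover.pull_map_unit_baseChange0 f W.hom pY hb sq.w F
    let κ := EtCoh.baseChange0 f W.hom pY hb sq.w ((EtCoh.pull f).obj F) ≫
      (EtCoh.push pY).map ((EtRamLib.Kummer.Cover.pullSquare f W.hom pY hb sq.w).hom.app F)
    haveI : IsIso κ := inferInstance
    have hκ : Function.Bijective fun k : EtCoh.const W.left ℤ ⟶ _ => k ≫ κ :=
      Function.bijective_iff_has_inverse.2 ⟨fun k => k ≫ inv κ, fun k => by simp, fun k => by simp⟩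
    refine (Function.Bijective.of_comp_iff' hκ _).1 ?_
    refine (congrArg Function.Bijective ?_).mpr (hu pY hc _ (key W))
    funext k
    exact (Category.assoc _ _ _).trans (congrArg (k ≫ ·) e)
  refine ⟨hunit, fun q => ?_⟩
  induction q using Nat.strong_induction_on with
  | _ q ih =>
  intro h1 h2
  obtain ⟨m, rfl⟩ : ∃ m, q = m + 1 := ⟨q - 1, by omega⟩
  refine isZero_of_pull_top Q hQ _ fun W hW₀ => ?_
  obtain ⟨P, hb, pY, sq, hc⟩ := h W hW₀
  haveI : Etale hb := MorphismProperty.of_isPullback sq.flip W.prop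
  haveI : (EtCoh.pull hb).PreservesInjectiveObjects := ⟨fun {I} _ => EtSupp.ExtZero.injective_pull hb I⟩
  let β : EtCoh.push f ⋙ EtCoh.pull W.hom ≅ EtCoh.pull hb ⋙ EtCoh.push pY :=
    NatIso.ofComponents
      (fun G => haveI := EtaleBC0.isIso_baseChange0 f W.hom pY hb sq G
        asIso (EtCoh.baseChange0 f W.hom pY hb sq.w G))
      (fun a => EtRamLib.Kummer.Cover.baseChange0_natural f W.hom pY hb sq.w a)
  let κ : ∀ b : ℕ, (EtCoh.pull W.hom).obj ((EtCoh.Rpush f b).obj ((EtCoh.pull f).obj F)) ≅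
      (EtCoh.Rpush pY b).obj ((EtCoh.pull pY).obj ((EtCoh.pull W.hom).obj F)) := fun b =>
    (DerFun.rightDerivedPostIso (EtCoh.pull W.hom) (EtCoh.push f) b _).symm ≪≫
      SiteCoh.PushDerived.rightDerivedObjIso β b _ ≪≫
      DerFun.rightDerivedCompIso (EtCoh.pull hb) (EtCoh.push pY) b _ ≪≫
      (EtCoh.Rpush pY b).mapIso ((EtRamLib.Kummer.Cover.pullSquare f W.hom pY hb sq.w).app F)
  have hW : IsIso ((EtCoh.pullPushAdj pY).unit.app ((EtCoh.pull W.hom).obj F)) := by
    haveI := hunit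
    haveI := EtaleBC0.isIso_baseChange0 f W.hom pY hb sq ((EtCoh.pull f).obj F)
    exact (congrArg (fun k => IsIso k)
      (EtRamLib.Kummer.Cover.pull_map_unit_baseChange0 f W.hom pY hb sq.w F)).mp inferInstance
  have hη : ∀ b, Function.Bijective fun e : EtCoh.H W.left ((EtCoh.pull W.hom).obj F) b =>
      e.comp (Abelian.Ext.mk₀ ((EtCoh.pullPushAdj pY).unit.app ((EtCoh.pull W.hom).obj F))) (add_zero b) :=
    fun b => HpullComp.HF_map_bijective _
  obtain ⟨hbij, hinj⟩ := hc _ (key W)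
  have hsur : Function.Surjective (AdjExt.toExt (EtCoh.pullPushAdj pY) (EtCoh.const W.left ℤ)
      ((EtCoh.pull pY).obj ((EtCoh.pull W.hom).obj F)) (m + 1)) := by
    have := (hbij (m + 1) h2).2
    rw [Hpull_eq_toExt] at this
    exact (Function.Surjective.of_comp_left this (bijective_pullConst_comp pY _ _).1).of_comp
  have hinj' : Function.Injective (AdjExt.toExt (EtCoh.pullPushAdj pY) (EtCoh.const W.left ℤ)
      ((EtCoh.pull pY).obj ((EtCoh.pull W.hom).obj F)) (m + 2)) := by
    have : Function.Injective (EtCore.Hpull pY ((EtCoh.pull W.hom).obj F) (m + 2)) := by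
      rcases Nat.lt_or_ge (m + 1) n with hlt | hge
      · exact (hbij (m + 2) hlt).1
      · obtain rfl : m + 1 = n := le_antisymm h2 hge
        exact hinj
    rw [Hpull_eq_toExt] at this
    exact (Function.Injective.of_comp this).of_comp_right (hη (m + 2)).2
  intro k
  have := AdjExt.hom_rightDerived_eq_zero (EtCoh.pullPushAdj pY) m _ _
    (fun b hb1 hb2 => ((EtCoh.pull W.hom).map_isZero (ih b (by omega) hb1 (by omega))).of_iso (κ b).symm)
    hsur hinj' (k ≫ (κ (m + 1)).hom)
  exact (cancel_mono (κ (m + 1)).hom).1 (this.trans zero_comp.symm)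

end Groth.Agent.EtDev
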